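import Groth.Agent.RelCurve5.Sum
import Groth.Agent.Grass5.HilbLocus

/-!
The universal divisor of degree `d + 1` as the product of `Hilb^d` with the curve.
-/

set_option autoImplicit false
set_option linter.style.haveILetI false
set_option maxHeartbeats 400000
set_option backward.isDefEq.respectTransparency false
set_option backward.isDefEq.respectTransparency.types false

universe u

open CategoryTheory Limits AlgebraicGeometry

namespace Groth.Agent.RelCurve5

open Groth.Agent.Grass5.Hilb

variable {X S : Scheme.{u}} (f : X ⟶ S) [SmoothOfRelativeDimension 1 f] [IsSeparated f]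

instance smooth_XTproj (T : Over S) : SmoothOfRelativeDimension 1 (PicF.XTproj f T) := by
  haveI := smoothOfRelativeDimension_isStableUnderBaseChange 1
  exact MorphismProperty.pullback_snd _ _ ‹_›

theorem isEffCartier_secGraph (T : Over S) (x : T.left ⟶ X) (hx : x ≫ f = T.hom) :
    BlowUp.IsEffCartierIdeal (HilbD.secGraph f T x hx) := by
  obtain ⟨⟨h1, h2, h3⟩, -⟩ := finLocFree_one_secGraph f T x hx
  haveI := h1; haveI := h2; haveI := h3
  exact isEffCartier_of_quasiFinite (PicF.XTproj f T) _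

theorem addPoint_isFinLocFreeOfDeg (d : ℕ) (H : Over S) (Z : HilbD.Obj f d H)
    (hZ : HilbD.IsUniversal f d H Z) (H' : Over S) (Z' : HilbD.Obj f (d + 1) H')
    (hZ' : HilbD.IsUniversal f (d + 1) H' Z')
    (m : Over.mk (pullback.fst H.hom f ≫ H.hom) ⟶ H')
    (hm : HilbD.pull f m Z'.1 =
      HilbD.pull f (Over.homMk (pullback.fst H.hom f) rfl : Over.mk (pullback.fst H.hom f ≫ H.hom) ⟶ H) Z.1 *
        HilbD.secGraph f (Over.mk (pullback.fst H.hom f ≫ H.hom)) (pullback.snd H.hom f) pullback.condition.symm) :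
    Mor2.IsFinLocFreeOfDeg (d + 1) m.left := by
  let T : Over S := Over.mk (pullback.fst H.hom f ≫ H.hom)
  let t : T ⟶ H := Over.homMk (pullback.fst H.hom f) rfl
  let x : T.left ⟶ X := pullback.snd H.hom f
  have hx : x ≫ f = T.hom := pullback.condition.symm
  let w : Z'.1.subscheme ⟶ H'.left := Z'.1.subschemeι ≫ PicF.XTproj f H'
  let U : Over S := Over.mk (w ≫ H'.hom)
  let wU : U ⟶ H' := Over.homMk w rfl
  let xU : U.left ⟶ X := Z'.1.subschemeι ≫ pullback.fst f H'.hom
  have hxU : xU ≫ f = U.hom := by simp [xU, U, w, PicF.XTproj, pullback.condition]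
  have hsecU : sec f U xU hxU ≫ PicF.XTmap f wU = Z'.1.subschemeι := by
    refine pullback.hom_ext ?_ ?_
    · simp [sec, PicF.XTmap, xU]
    · simp [sec, PicF.XTmap, wU, w, PicF.XTproj]
      exact Category.id_comp _
  have hle : HilbD.pull f wU Z'.1 ≤ HilbD.secGraph f U xU hxU := by
    rw [pull_eq_comap, secGraph_eq, ← Scheme.IdealSheafData.le_map_iff_comap_le,
      Scheme.IdealSheafData.map_ker, hsecU, Scheme.IdealSheafData.ker_subschemeι]
  obtain ⟨K, hK, hKeq⟩ := difference_divisors (PicF.XTproj f U) hle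
    (finLocFree_one_secGraph f U xU hxU) (objPull wU Z').2
  rw [Nat.add_sub_cancel] at hK
  obtain ⟨a, ha, -⟩ := hZ U ⟨K, hK⟩
  have ha' : a.left ≫ H.hom = xU ≫ f := (Over.w a).trans hxU.symm
  let b : U ⟶ T := Over.homMk (pullback.lift a.left xU ha') (by simp [T, Over.w a])
  have hbt : b ≫ t = a := Over.OverMorphism.ext (by simp [b, t])
  have hbx : b.left ≫ x = xU := by simp [b, x]
  have hbm : b ≫ m = wU := (hZ' U (objPull wU Z')).unique (by
    show HilbD.pull f (b ≫ m) Z'.1 = HilbD.pull f wU Z'.1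
    rw [← pull_comp, hm, pull_eq_comap, Div89.comap_mul, ← pull_eq_comap, ← pull_eq_comap, pull_comp,
      hbt, ha, pull_secGraph, hKeq, mul_comm]
    congr 2) rfl
  have hleT : HilbD.pull f m Z'.1 ≤ HilbD.secGraph f T x hx := hm ▸ mul_le_right' _ _
  rw [pull_eq_comap, secGraph_eq, ← Scheme.IdealSheafData.le_map_iff_comap_le,
    Scheme.IdealSheafData.map_ker] at hleT
  let α₀ := IsClosedImmersion.lift Z'.1.subschemeι (sec f T x hx ≫ PicF.XTmap f m)
    ((Scheme.IdealSheafData.ker_subschemeι _).le.trans hleT)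
  have hα₀ : α₀ ≫ Z'.1.subschemeι = sec f T x hx ≫ PicF.XTmap f m := IsClosedImmersion.lift_fac _ _ _
  have hαw : α₀ ≫ w = m.left := by
    rw [← Category.assoc, hα₀]; simp [sec, PicF.XTmap, PicF.XTproj]; exact Category.id_comp _
  have hαx : α₀ ≫ xU = x := by
    rw [← Category.assoc, hα₀]; simp [sec, PicF.XTmap]
  let α : T ⟶ U := Over.homMk α₀ (by
    show α₀ ≫ w ≫ H'.hom = T.hom
    rw [← Category.assoc, hαw]; exact Over.w m)
  have hαm : α ≫ wU = m := Over.OverMorphism.ext hαw
  have hαa : α ≫ a = t := (hZ T (objPull t Z)).unique (by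
    show HilbD.pull f (α ≫ a) Z.1 = HilbD.pull f t Z.1
    rw [← pull_comp, ha]
    refine MP99.eq_of_mul_eq_mul (isEffCartier_secGraph f T x hx) ?_
    have h1 : HilbD.pull f α (HilbD.pull f wU Z'.1) = HilbD.pull f m Z'.1 := by rw [pull_comp, hαm]
    rw [hm, hKeq, pull_eq_comap, Div89.comap_mul, ← pull_eq_comap, ← pull_eq_comap, pull_secGraph] at h1
    rw [mul_comm]
    convert h1 using 3
    exact hαx.symm) rfl
  have hba : b.left ≫ α₀ = 𝟙 _ := by
    rw [← cancel_mono Z'.1.subschemeι, Category.assoc, hα₀, Category.id_comp]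
    refine pullback.hom_ext ?_ ?_
    · simp [sec, PicF.XTmap]
      exact hbx
    · have := congr($(hbm).left)
      simp [sec, PicF.XTmap]
      rw [show 𝟙 T.left ≫ m.left = m.left from Category.id_comp _]
      simpa [wU, w, PicF.XTproj] using this
  have hab : α₀ ≫ b.left = 𝟙 _ := by
    refine pullback.hom_ext ?_ ?_
    · have := congr($(hαa).left)
      simp [b, t] at this ⊢
      exact this
    · simp [b, hαx, x]
  haveI : IsIso α₀ := ⟨b.left, hab, hba⟩
  exact finLocFreeOfDeg_isPullback (fst := α₀) (g := 𝟙 H'.left)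
    (IsPullback.of_horiz_isIso ⟨by rw [Category.comp_id]; exact hαw⟩) Z'.2

end Groth.Agent.RelCurve5
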