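import Groth.Agent.Div89.Comap
import Groth.Agent.Div89.Cartier
import Groth.Agent.FlatMor68.FlatInfNbhd
import Mathlib.RingTheory.Artinian.Algebra
import Mathlib.AlgebraicGeometry.Morphisms.FlatRank

/-!
Additivity of the length of finite divisors over a field.
-/

set_option autoImplicit false
set_option linter.style.haveILetI false
set_option maxHeartbeats 400000
set_option backward.isDefEq.respectTransparency false
set_option backward.isDefEq.respectTransparency.types false

universe u

open CategoryTheory Limits AlgebraicGeometry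
open scoped nonZeroDivisors

namespace Groth.Agent.RelCurve5

open Groth.Agent.Div89

section Algebra

/-- the annihilator of the class of `a` modulo `a * b`. -/
theorem annihilator_image {O Q : Type u} [CommRing O] [CommRing Q] (φ : O →+* Q)
    (hφ : Function.Surjective φ) {a b : O} (ha : a ∈ O⁰) (hker : RingHom.ker φ = Ideal.span {a * b})
    (r : Q) : r * φ a = 0 ↔ r ∈ Ideal.span {φ b} := by
  obtain ⟨r, rfl⟩ := hφ r
  rw [← map_mul, ← RingHom.mem_ker, hker, Ideal.mem_span_singleton', Ideal.mem_span_singleton']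
  constructor
  · rintro ⟨c, hc⟩
    refine ⟨φ c, ?_⟩
    rw [← map_mul]
    congr 1
    refine sub_eq_zero.1 ((mem_nonZeroDivisors_iff_right.1 ha) _ ?_)
    linear_combination hc
  · rintro ⟨c, hc⟩
    obtain ⟨c, rfl⟩ := hφ c
    rw [← map_mul, ← sub_eq_zero, ← map_sub, ← RingHom.mem_ker, hker, Ideal.mem_span_singleton'] at hc
    obtain ⟨e, he⟩ := hc
    exact ⟨c - e * a, by linear_combination a * (-he)⟩

theorem isPrincipal_of_semilocal {B : Type u} [CommRing B] [Finite (MaximalSpectrum B)] (K : Ideal B)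
    (hK : K.FG)
    (h : ∀ (m : Ideal B) [m.IsMaximal], ∃ a ∈ K, K.map (algebraMap B (Localization.AtPrime m)) =
      Ideal.span {algebraMap B (Localization.AtPrime m) a}) :
    ∃ a, K = Ideal.span {a} := by
  classical
  haveI := Fintype.ofFinite (MaximalSpectrum B)
  choose a ha hspan using fun m : MaximalSpectrum B => @h m.asIdeal m.isMaximal
  have hco : Pairwise fun m n : MaximalSpectrum B => IsCoprime m.asIdeal n.asIdeal := fun m n hmn =>
    Ideal.isCoprime_iff_sup_eq.2
      (m.isMaximal.coprime_of_ne n.isMaximal fun e => hmn (MaximalSpectrum.ext e))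
  choose e he using fun m : MaximalSpectrum B =>
    Ideal.exists_forall_sub_mem_ideal hco (fun n => if n = m then (1 : B) else 0)
  let g := ∑ m, e m * a m
  have hg : g ∈ K := Ideal.sum_mem _ fun m _ => K.mul_mem_left _ (ha m)
  refine ⟨g, le_antisymm ?_ ((Ideal.span_singleton_le_iff_mem _).2 hg)⟩
  refine Ideal.le_of_localization_maximal fun P hP => ?_
  haveI := hP
  let m₀ : MaximalSpectrum B := ⟨P, hP⟩
  rw [Ideal.map_span, Set.image_singleton]
  let ι := algebraMap B (Localization.AtPrime P)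
  refine Submodule.le_of_le_smul_of_le_jacobson_bot (hK.map _) (IsLocalRing.maximalIdeal_le_jacobson _) ?_
  rw [hspan m₀]
  refine (Ideal.span_singleton_le_iff_mem _).2 ?_
  have hdiff : g - a m₀ ∈ P * K := by
    have : g - a m₀ = ∑ m, (e m - if m₀ = m then 1 else 0) * a m := by
      simp [g, sub_mul, Finset.sum_sub_distrib, Finset.sum_ite_eq, ite_mul]
    rw [this]
    exact Ideal.sum_mem _ fun m _ => Ideal.mul_mem_mul (he m m₀) (ha m)
  have hx : ι (g - a m₀) ∈ IsLocalRing.maximalIdeal (Localization.AtPrime P) • Ideal.span {ι (a m₀)} := by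
    rw [← hspan m₀, smul_eq_mul, ← IsLocalization.AtPrime.map_eq_maximalIdeal P (Localization.AtPrime P),
      ← Ideal.map_mul]
    exact Ideal.mem_map_of_mem _ hdiff
  have := sub_mem (Submodule.mem_sup_left (T := IsLocalRing.maximalIdeal (Localization.AtPrime P) • Ideal.span {ι (a m₀)})
    (Ideal.mem_span_singleton_self (ι g))) (Submodule.mem_sup_right hx)
  rwa [map_sub, sub_sub_cancel] at this

theorem finrank_eq_add (k : Type u) [Field k] {B : Type u} [CommRing B] [Algebra k B]
    [Module.Finite k B] (a : B) (K₂ : Ideal B) (hann : ∀ r, r * a = 0 ↔ r ∈ K₂) :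
    Module.finrank k B = Module.finrank k (B ⧸ Ideal.span {a}) + Module.finrank k (B ⧸ K₂) := by
  rw [← Submodule.finrank_quotient_add_finrank ((Ideal.span {a}).restrictScalars k)]
  congr 1
  let μ : B →ₗ[k] B := LinearMap.mulRight k a
  have hr : μ.range = (Ideal.span {a}).restrictScalars k := by
    ext x
    simp [μ, Ideal.mem_span_singleton', eq_comm]
  have hk : μ.ker = K₂.restrictScalars k := by
    ext x
    simp [μ, hann]
  rw [← hr, ← μ.quotKerEquivRange.finrank_eq, hk]
  exact (Submodule.Quotient.restrictScalarsEquiv k K₂).finrank_eq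

end Algebra

/-- degree of a finite scheme over a field. -/
theorem finrank_eq_gamma {k : Type u} [Field k] {W : Scheme.{u}} (π : W ⟶ Spec (CommRingCat.of k))
    [IsFinite π] [Flat π] (y : Spec (CommRingCat.of k)) :
    letI := ((Scheme.ΓSpecIso (CommRingCat.of k)).inv ≫ π.appTop).hom.toAlgebra
    Module.Finite k Γ(W, ⊤) ∧ π.finrank y = Module.finrank k Γ(W, ⊤) := by
  let φ : CommRingCat.of k ⟶ Γ(W, ⊤) := (Scheme.ΓSpecIso (CommRingCat.of k)).inv ≫ π.appTop
  have : IsAffine W := isAffine_of_isAffineHom π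
  have hπ : π = W.isoSpec.hom ≫ Spec.map φ := by
    rw [Scheme.isoSpec_hom, Spec.map_comp, ← Scheme.toSpecΓ_naturality_assoc]
    simp
  have : IsFinite (Spec.map φ) := by
    rw [← MorphismProperty.cancel_left_of_respectsIso @IsFinite W.isoSpec.hom, ← hπ]; infer_instance
  have : Flat (Spec.map φ) := by
    rw [← MorphismProperty.cancel_left_of_respectsIso @Flat W.isoSpec.hom, ← hπ]; infer_instance
  letI : Algebra k Γ(W, ⊤) := φ.hom.toAlgebra
  have : Module.Finite k Γ(W, ⊤) := IsFinite.SpecMap_iff φ |>.mp ‹_›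
  refine ⟨this, ?_⟩
  have h := Scheme.Hom.finrank_SpecMap_algebraMap k Γ(W, ⊤) y
  rw [Module.rankAtStalk_eq_finrank_of_free, Pi.natCast_apply, Nat.cast_id] at h
  conv_lhs => rw [hπ]
  rw [Scheme.Hom.finrank_comp_left_of_isIso]
  exact h

/-- **Additivity of degrees** over a field. -/
theorem finrank_mul_field {k : Type u} [Field k] {X : Scheme.{u}} (f : X ⟶ Spec (CommRingCat.of k))
    {I₁ I₂ : X.IdealSheafData} (h1 : BlowUp.IsEffCartierIdeal I₁) (h2 : BlowUp.IsEffCartierIdeal I₂)
    [IsFinite ((I₁ * I₂).subschemeι ≫ f)] [Flat ((I₁ * I₂).subschemeι ≫ f)]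
    [IsFinite (I₁.subschemeι ≫ f)] [Flat (I₁.subschemeι ≫ f)]
    [IsFinite (I₂.subschemeι ≫ f)] [Flat (I₂.subschemeι ≫ f)] (y : Spec (CommRingCat.of k)) :
    ((I₁ * I₂).subschemeι ≫ f).finrank y =
      (I₁.subschemeι ≫ f).finrank y + (I₂.subschemeι ≫ f).finrank y := by
  let ι := (I₁ * I₂).subschemeι
  let Z := (I₁ * I₂).subscheme
  let π : Z ⟶ Spec (CommRingCat.of k) := ι ≫ f
  haveI : IsAffine Z := isAffine_of_isAffineHom π
  let B := Γ(Z, ⊤)
  let ψ := (Scheme.ΓSpecIso (CommRingCat.of k)).inv ≫ π.appTop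
  letI algB : Algebra k B := ψ.hom.toAlgebra
  obtain ⟨hfin, hrk⟩ := finrank_eq_gamma π y
  haveI : Module.Finite k B := hfin
  haveI : IsArtinianRing B := IsArtinianRing.of_finite k B
  let T : Z.affineOpens := ⟨⊤, isAffineOpen_top Z⟩
  let K₁ : Ideal B := (I₁.comap ι).ideal T
  let K₂ : Ideal B := (I₂.comap ι).ideal T
  -- the quotient rings are the two divisors
  have hquot : ∀ (J : X.IdealSheafData), I₁ * I₂ ≤ J → IsFinite (J.subschemeι ≫ f) → Flat (J.subschemeι ≫ f) →
      Module.finrank k (B ⧸ (J.comap ι).ideal T) = (J.subschemeι ≫ f).finrank y := by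
    intro J hJ hJf hJfl
    haveI := hJf; haveI := hJfl
    let J' := J.comap ι
    have hfac : ∃ a, a ≫ ι = J.subschemeι :=
      ⟨IsClosedImmersion.lift _ _ ((Scheme.IdealSheafData.ker_subschemeι _).le.trans
        (hJ.trans (Scheme.IdealSheafData.ker_subschemeι _).ge)), IsClosedImmersion.lift_fac _ _ _⟩
    obtain ⟨a, ha⟩ := hfac
    have hpb : IsPullback a (𝟙 _) ι J.subschemeι := by
      simpa using (IsPullback.of_vert_isIso (fst := a) (snd := 𝟙 _) (f := 𝟙 Z) (g := a) ⟨(Category.comp_id a).trans (Category.id_comp a).symm⟩).paste_horiz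
        (IsKernelPair.id_of_mono ι) |>.of_iso (Iso.refl _) (Iso.refl _) (Iso.refl _) (Iso.refl _)
          (by simp; try exact (Category.comp_id _).symm) (by simp) (by simp) (by simp [ha]; try exact (Category.comp_id _))
    let e : J'.subscheme ≅ J.subscheme := J.comapIso ι ≪≫ hpb.isoPullback.symm
    have he : e.hom ≫ (J.subschemeι ≫ f) = J'.subschemeι ≫ π := by
      simp only [e, π, Iso.trans_hom, Iso.symm_hom, Category.assoc]
      have e1 : hpb.isoPullback.inv ≫ J.subschemeι ≫ f = pullback.fst ι J.subschemeι ≫ ι ≫ f := by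
        rw [Iso.inv_comp_eq, ← Category.assoc hpb.isoPullback.hom, IsPullback.isoPullback_hom_fst,
          ← Category.assoc a, ha]
      rw [e1, ← Category.assoc (J.comapIso ι).hom, Scheme.IdealSheafData.comapIso_hom_fst]
    haveI : IsFinite (J'.subschemeι ≫ π) := by rw [← he]; exact (MorphismProperty.cancel_left_of_respectsIso @IsFinite e.hom _).2 hJf
    haveI : Flat (J'.subschemeι ≫ π) := by rw [← he]; exact (MorphismProperty.cancel_left_of_respectsIso @Flat e.hom _).2 hJfl
    rw [show (J.subschemeι ≫ f).finrank y = (J'.subschemeι ≫ π).finrank y by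
      rw [← he, @Scheme.Hom.finrank_comp_left_of_isIso _ _ _ e.hom (J.subschemeι ≫ f) inferInstance hJfl hJf]]
    letI algW : Algebra k Γ(J'.subscheme, ⊤) :=
      ((Scheme.ΓSpecIso (CommRingCat.of k)).inv ≫ (J'.subschemeι ≫ π).appTop).hom.toAlgebra
    rw [(finrank_eq_gamma (J'.subschemeι ≫ π) y).2]
    let eq : Γ(J'.subscheme, ⊤) ≅ CommRingCat.of (B ⧸ J'.ideal T) := J'.subschemeObjIso T
    refine (LinearEquiv.finrank_eq (AlgEquiv.ofRingEquiv (f := eq.commRingCatIsoToRingEquiv) fun c => ?_).toLinearEquiv).symm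
    show eq.hom.hom (((Scheme.ΓSpecIso (CommRingCat.of k)).inv ≫ (J'.subschemeι ≫ π).appTop).hom c) =
      Ideal.Quotient.mk _ (ψ.hom c)
    have hι : J'.subschemeι.appTop = CommRingCat.ofHom (Ideal.Quotient.mk (J'.ideal T)) ≫ eq.inv := by
      exact J'.subschemeι_app T
    rw [Scheme.Hom.comp_appTop, hι]
    simp only [← ConcreteCategory.comp_apply, ← Category.assoc]
    simp [ψ]
    rfl
  -- local structure at the points
  have hloc : ∀ (m : Ideal B) [m.IsMaximal], ∃ (Q : Type u) (_ : CommRing Q) (_ : Algebra B Q)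
      (_ : IsLocalization.AtPrime Q m) (O : Type u) (_ : CommRing O) (φ : O →+* Q) (a b : O),
      Function.Surjective φ ∧ a ∈ O⁰ ∧ RingHom.ker φ = Ideal.span {a * b} ∧
      K₁.map (algebraMap B Q) = Ideal.span {φ a} ∧ K₂.map (algebraMap B Q) = Ideal.span {φ b} := by
    intro m hm
    obtain ⟨z, hz, hzm⟩ := exists_point T m
    letI := stalkAlg T.1 z hz
    haveI hQ := isLocalization_stalk T z hz
    obtain ⟨a, ha, hIa⟩ := exists_stalk_generator h1 (ι z)
    obtain ⟨b, hb, hIb⟩ := exists_stalk_generator h2 (ι z)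
    refine ⟨Z.presheaf.stalk z, inferInstance, inferInstance, hzm ▸ hQ, X.presheaf.stalk (ι z),
      inferInstance, (ι.stalkMap z).hom, a, b, ι.stalkMap_surjective z, ha, ?_, ?_, ?_⟩
    · rw [FlatMor68.FlatInfNbhd.ker_stalkMap_closedImmersion, Scheme.IdealSheafData.ker_subschemeι,
        stalkIdeal_mul, hIa, hIb, Ideal.span_singleton_mul_span_singleton]
    · refine (stalkIdeal_eq (I₁.comap ι) T z hz).symm.trans ?_
      rw [stalkIdeal_comap, hIa, Ideal.map_span, Set.image_singleton]
    · refine (stalkIdeal_eq (I₂.comap ι) T z hz).symm.trans ?_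
      rw [stalkIdeal_comap, hIb, Ideal.map_span, Set.image_singleton]
  obtain ⟨g, hg⟩ := isPrincipal_of_semilocal K₁ (IsNoetherian.noetherian _) fun m hm => by
    obtain ⟨Q, _, _, hQ, O, _, φ, a, b, hφ, ha, hker, hK1, hK2⟩ := hloc m
    have hmem : φ a ∈ K₁.map (algebraMap B Q) := hK1 ▸ Ideal.mem_span_singleton_self _
    obtain ⟨⟨⟨c, hc⟩, s⟩, hs⟩ := (IsLocalization.mem_map_algebraMap_iff m.primeCompl Q).1 hmem
    refine ⟨c, hc, ?_⟩
    have h' : K₁.map (algebraMap B Q) = Ideal.span {algebraMap B Q c} := by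
      rw [← hs, Ideal.span_singleton_mul_right_unit (IsLocalization.map_units Q s), hK1]
    let ε : Q ≃ₐ[B] Localization.AtPrime m := IsLocalization.algEquiv m.primeCompl _ _
    have hεc : (ε.toRingEquiv.toRingHom).comp (algebraMap B Q) = algebraMap B (Localization.AtPrime m) :=
      RingHom.ext fun b => ε.commutes b
    have := congr(Ideal.map ε.toRingEquiv.toRingHom $h')
    rw [Ideal.map_span, Set.image_singleton, Ideal.map_map, hεc] at this
    refine this.trans (congrArg (fun t => Ideal.span {t}) ?_)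
    exact ε.commutes c
  have hann : ∀ r : B, r * g = 0 ↔ r ∈ K₂ := by
    intro r
    constructor
    · intro hr
      refine Ideal.mem_of_localization_maximal fun m hm => ?_
      obtain ⟨Q, _, _, hQ, O, _, φ, a, b, hφ, ha, hker, hK1, hK2⟩ := hloc m
      have h0 : algebraMap B Q r * φ a = 0 := by
        rw [hg, Ideal.map_span, Set.image_singleton] at hK1
        obtain ⟨c, hc⟩ := Ideal.mem_span_singleton'.1 (hK1.ge (Ideal.mem_span_singleton_self (φ a)))
        rw [← hc, ← mul_assoc, mul_comm _ c, mul_assoc, ← map_mul, hr, map_zero, mul_zero]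
      have h1 : algebraMap B Q r ∈ K₂.map (algebraMap B Q) :=
        hK2 ▸ (annihilator_image φ hφ ha hker _).1 h0
      let ε : Q ≃ₐ[B] Localization.AtPrime m := IsLocalization.algEquiv m.primeCompl _ _
      have hεc : (ε.toRingEquiv.toRingHom).comp (algebraMap B Q) = algebraMap B (Localization.AtPrime m) :=
        RingHom.ext fun b => ε.commutes b
      rw [← hεc, ← Ideal.map_map]
      exact Ideal.mem_map_of_mem _ h1
    · intro hr
      refine eq_zero_of_localization _ fun m hm => ?_
      obtain ⟨Q, _, _, hQ, O, _, φ, a, b, hφ, ha, hker, hK1, hK2⟩ := hloc m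
      let ε : Q ≃ₐ[B] Localization.AtPrime m := IsLocalization.algEquiv m.primeCompl _ _
      rw [← ε.commutes, map_eq_zero_iff _ ε.injective, map_mul]
      have h1 : algebraMap B Q g ∈ Ideal.span {φ a} :=
        hK1 ▸ Ideal.mem_map_of_mem _ (hg ▸ Ideal.mem_span_singleton_self g)
      obtain ⟨c, hc⟩ := Ideal.mem_span_singleton'.1 h1
      rw [← hc, ← mul_assoc, mul_comm _ c, mul_assoc,
        (annihilator_image φ hφ ha hker _).2 (hK2 ▸ Ideal.mem_map_of_mem _ hr), mul_zero]
  have hle1 : I₁ * I₂ ≤ I₁ := fun U => by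
    rw [Scheme.IdealSheafData.ideal_mul, Pi.mul_apply]; exact Ideal.mul_le_left
  have hle2 : I₁ * I₂ ≤ I₂ := fun U => by
    rw [Scheme.IdealSheafData.ideal_mul, Pi.mul_apply]; exact Ideal.mul_le_right
  have e : ∀ J : Ideal B, J = Ideal.span {g} →
      Module.finrank k B = Module.finrank k (B ⧸ J) + Module.finrank k (B ⧸ K₂) := by
    rintro J rfl; exact finrank_eq_add k g K₂ hann
  rw [← hquot I₁ hle1 inferInstance inferInstance, ← hquot I₂ hle2 inferInstance inferInstance]
  exact hrk.trans (e K₁ hg)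

end Groth.Agent.RelCurve5
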