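import Groth.Agent.RelCurve5.FibreRing
import Groth.Agent.Div89.RelFlat

/-!
Ideals with flat quasi-finite quotient in a smooth algebra of relative dimension one.
-/

set_option autoImplicit false
set_option linter.style.haveILetI false
set_option maxHeartbeats 400000

universe u

open IsLocalRing TensorProduct
open scoped nonZeroDivisors

namespace Groth.Agent.RelCurve5

variable {A B : Type u} [CommRing A] [CommRing B] [Algebra A B]

/-- an ideal with flat quotient meets extended ideals in products. -/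
theorem inf_map_le_of_flat (J : Ideal B) [Module.Flat A (B ⧸ J)] (a : Ideal A) :
    J ⊓ a.map (algebraMap A B) ≤ a.map (algebraMap A B) * J := by
  rintro x ⟨hxJ, hxa⟩
  obtain ⟨n, r, b, hx⟩ : ∃ (n : ℕ) (r : Fin n → a) (b : Fin n → B), x = ∑ i, (r i : A) • b i := by
    change x ∈ a.map (algebraMap A B) at hxa
    rw [Ideal.map, Ideal.span, Submodule.mem_span_image_iff_exists_fun] at hxa
    obtain ⟨t, ht, c, hc⟩ := hxa
    refine ⟨t.card, fun i => ⟨(t.equivFin.symm i : A), ht (t.equivFin.symm i).2⟩,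
      fun i => c (t.equivFin.symm i), ?_⟩
    rw [← hc, ← t.equivFin.symm.sum_comp]
    exact Finset.sum_congr rfl fun i _ => by simp [Algebra.smul_def, mul_comm]
  have h0 : ∑ i, (r i : A) • (Ideal.Quotient.mk J (b i)) = 0 := by
    have e : ∀ i, (r i : A) • Ideal.Quotient.mk J (b i) = Ideal.Quotient.mk J ((r i : A) • b i) :=
      fun i => rfl
    simp only [e, ← map_sum, ← hx]
    exact Ideal.Quotient.eq_zero_iff_mem.2 hxJ
  obtain ⟨κ, c, y, hy, hc⟩ := Module.Flat.isTrivialRelation_of_sum_smul_eq_zero (R := A) (M := B ⧸ J)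
    (f := fun i => (r i : A)) (x := fun i => Ideal.Quotient.mk J (b i)) (by exact h0)
  simp only at hy hc
  choose y' hy' using fun j => Ideal.Quotient.mk_surjective (y j)
  have hb : ∀ i, b i - ∑ j, c i j • y' j ∈ J := fun i => by
    refine Ideal.Quotient.eq.1 ?_
    rw [hy i, map_sum]
    exact Finset.sum_congr rfl fun j _ => by rw [← hy' j]; rfl
  have hx' : x = ∑ i, algebraMap A B (r i) * (b i - ∑ j, c i j • y' j) := by
    simp only [mul_sub, Finset.mul_sum, Finset.sum_sub_distrib]
    rw [Finset.sum_comm]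
    have : ∀ j, ∑ i, algebraMap A B (r i) * (c i j • y' j) = 0 := fun j => by
      simp only [← Algebra.smul_def, smul_smul, ← Finset.sum_smul, hc j, zero_smul]
    rw [Finset.sum_eq_zero (fun j _ => this j), sub_zero, hx]
    simp only [Algebra.smul_def]
  rw [hx']
  exact Ideal.sum_mem _ fun i _ => Ideal.mul_mem_mul (Ideal.mem_map_of_mem _ (r i).2) (hb i)

/-- in a local principal ideal domain some member of a generating set generates. -/
theorem exists_generator {F : Type u} [CommRing F] [IsDomain F] [IsLocalRing F]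
    [IsPrincipalIdealRing F] (s : Set F) (h0 : (0 : F) ∈ s) : ∃ g ∈ s, Ideal.span s = Ideal.span {g} := by
  obtain ⟨g, hg⟩ := IsPrincipalIdealRing.principal (Ideal.span s)
  have hg' : Ideal.span s = Ideal.span {g} := hg
  by_cases hz : g = 0
  · exact ⟨0, h0, by rw [hg', hz]⟩
  by_contra hne
  simp only [not_exists, not_and] at hne
  have hle : Ideal.span s ≤ maximalIdeal F * Ideal.span {g} := by
    refine Ideal.span_le.2 fun t ht => ?_
    obtain ⟨u, hu⟩ := Ideal.mem_span_singleton'.1 (hg' ▸ Ideal.subset_span ht)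
    have : ¬ IsUnit u := fun hu' => hne t ht (by
      rw [hg', ← hu, Ideal.span_singleton_mul_left_unit hu'])
    rw [← hu]
    exact Ideal.mul_mem_mul this (Ideal.mem_span_singleton_self g)
  have := hle (hg' ▸ Ideal.mem_span_singleton_self g : g ∈ Ideal.span s)
  obtain ⟨u, hu, e⟩ := Ideal.mem_mul_span_singleton.1 this
  have : u = 1 := mul_right_cancel₀ hz (e.trans (one_mul g).symm)
  exact (maximalIdeal.isMaximal F).ne_top (Ideal.eq_top_iff_one _ |>.2 (this ▸ hu))

variable [Algebra.IsStandardSmoothOfRelativeDimension 1 A B]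

theorem localQuot_facts (J : Ideal B) [Algebra.QuasiFinite A (B ⧸ J)] (p : Ideal A) [p.IsPrime]
    (q : Ideal B) [q.IsPrime] [hqp : q.LiesOver p] (hJq : J ≤ q) :
    IsDomain (Localization.AtPrime q ⧸ p.map (algebraMap A (Localization.AtPrime q))) ∧
      IsPrincipalIdealRing (Localization.AtPrime q ⧸ p.map (algebraMap A (Localization.AtPrime q))) ∧
      ¬ J.map (algebraMap B (Localization.AtPrime q)) ≤ p.map (algebraMap A (Localization.AtPrime q)) := by
  let Q := PrimeSpectrum.preimageEquivFiber A B ⟨p, inferInstance⟩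
    ⟨⟨q, inferInstance⟩, PrimeSpectrum.ext hqp.over.symm⟩
  have hQ : Q.asIdeal.comap (Algebra.TensorProduct.includeRight : B →ₐ[A] p.Fiber B) = q :=
    congrArg (fun x => x.1.asIdeal) ((PrimeSpectrum.preimageEquivFiber A B ⟨p, inferInstance⟩).left_inv
      ⟨⟨q, inferInstance⟩, PrimeSpectrum.ext hqp.over.symm⟩)
  have hincomp : ∀ q' q'' : Ideal B, q'.IsPrime → q''.IsPrime → J ≤ q' → q' ≤ q'' →
      q'.under A = q''.under A → q' = q'' := by
    intro q' q'' _ _ h1 h2 h3
    let π := Ideal.Quotient.mk J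
    have hk' : RingHom.ker π ≤ q' := by rwa [Ideal.mk_ker]
    have hk'' : RingHom.ker π ≤ q'' := hk'.trans h2
    haveI := Ideal.map_isPrime_of_surjective Ideal.Quotient.mk_surjective hk'
    haveI := Ideal.map_isPrime_of_surjective Ideal.Quotient.mk_surjective hk''
    have := Algebra.QuasiFinite.eq_of_le_of_under_eq (R := A) (q'.map π) (q''.map π) (Ideal.map_mono h2) (by
      have e : ∀ r : Ideal B, RingHom.ker π ≤ r → (r.map π).under A = r.under A := fun r hr => by
        show (r.map π).comap (algebraMap A (B ⧸ J)) = _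
        rw [IsScalarTower.algebraMap_eq A B (B ⧸ J), ← Ideal.comap_comap]
        show Ideal.comap _ ((r.map π).comap π) = _
        rw [Ideal.comap_map_of_surjective' π Ideal.Quotient.mk_surjective, sup_eq_left.2 hr]
      rw [e _ hk', e _ hk'', h3])
    have := congr(Ideal.comap π $this)
    rwa [Ideal.comap_map_of_surjective' π Ideal.Quotient.mk_surjective, sup_eq_left.2 hk',
      Ideal.comap_map_of_surjective' π Ideal.Quotient.mk_surjective, sup_eq_left.2 hk''] at this
  haveI hQmax : Q.asIdeal.IsMaximal := by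
    obtain ⟨M, hM, hQM⟩ := Ideal.exists_le_maximal Q.asIdeal Q.2.ne_top
    let inc := (Algebra.TensorProduct.includeRight : B →ₐ[A] p.Fiber B)
    haveI := hM.isPrime
    have h1 : q ≤ M.comap inc := hQ ▸ Ideal.comap_mono hQM
    haveI : (M.comap inc).LiesOver p := inferInstance
    have h2 := hincomp q (M.comap inc) inferInstance inferInstance hJq h1
      (hqp.over.symm.trans (Ideal.LiesOver.over (p := p) (P := M.comap inc)))
    let M' : PrimeSpectrum (p.Fiber B) := ⟨M, hM.isPrime⟩
    have h3 : M' = Q := (PrimeSpectrum.preimageEquivFiber A B ⟨p, inferInstance⟩).symm.injective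
      (Subtype.ext (PrimeSpectrum.ext (h2.symm.trans hQ.symm)))
    exact (congrArg PrimeSpectrum.asIdeal h3) ▸ hM
  obtain ⟨hd, hp, hne⟩ := localRing_facts p.ResidueField (p.Fiber B) Q.asIdeal
  haveI := hd; haveI := hp
  have key : ∀ (r : Ideal B) [r.IsPrime] [r.LiesOver p], r = q →
      Nonempty ((Localization.AtPrime r ⧸ p.map (algebraMap A (Localization.AtPrime r))) ≃+*
        (Localization.AtPrime q ⧸ p.map (algebraMap A (Localization.AtPrime q)))) := by
    intro r _ _ hr
    subst hr
    exact ⟨RingEquiv.refl _⟩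
  let := Localization.AtPrime.algebraOfLiesOver p
    (Q.asIdeal.comap (Algebra.TensorProduct.includeRight : B →ₐ[A] p.Fiber B))
  obtain ⟨e1⟩ := key _ hQ
  let e := (Ideal.Fiber.localizationAlgEquivQuotient p Q.asIdeal).toRingEquiv.trans e1
  have hdom : IsDomain (Localization.AtPrime q ⧸ p.map (algebraMap A (Localization.AtPrime q))) :=
    MulEquiv.isDomain _ e.toMulEquiv.symm
  refine ⟨hdom, IsPrincipalIdealRing.of_surjective e.toRingHom e.surjective, fun hle => ?_⟩
  set O := Localization.AtPrime q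
  set pO := p.map (algebraMap A O) with hpO
  have hprime : pO.IsPrime := (Ideal.Quotient.isDomain_iff_prime pO).1 hdom
  have hqq : pO.comap (algebraMap B O) = q := by
    haveI := hprime
    have hle' : pO.comap (algebraMap B O) ≤ q := by
      conv_rhs => rw [← IsLocalization.AtPrime.comap_maximalIdeal O q]
      exact Ideal.comap_mono (IsLocalRing.le_maximalIdeal hprime.ne_top)
    refine hincomp _ q inferInstance inferInstance ((Ideal.le_comap_map).trans (Ideal.comap_mono hle)) hle' ?_
    refine le_antisymm (Ideal.comap_mono hle') ?_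
    rw [← hqp.over]
    intro a ha
    show algebraMap B O (algebraMap A B a) ∈ pO
    rw [← IsScalarTower.algebraMap_apply]
    exact Ideal.mem_map_of_mem _ ha
  have hmax : pO = maximalIdeal O := by
    have := IsLocalization.map_comap q.primeCompl O pO
    rw [show pO.under B = q from hqq, IsLocalization.AtPrime.map_eq_maximalIdeal] at this
    exact this.symm
  refine hne hQmax ?_
  have hfld : IsField (O ⧸ pO) := (Ideal.Quotient.maximal_ideal_iff_isField_quotient _).1 (hmax ▸ maximalIdeal.isMaximal O)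
  exact IsLocalRing.isField_iff_maximalIdeal_eq.1 (MulEquiv.isField hfld e.toMulEquiv)

/-- **Local generator of a relative divisor.** -/
theorem exists_local_generator (J : Ideal B) (hfg : J.FG) [Module.Flat A (B ⧸ J)]
    [Algebra.QuasiFinite A (B ⧸ J)] (p : Ideal A) [p.IsPrime] (q : Ideal B) [q.IsPrime]
    [q.LiesOver p] (hJq : J ≤ q) :
    ∃ h ∈ J, J.map (algebraMap B (Localization.AtPrime q)) =
        Ideal.span {algebraMap B (Localization.AtPrime q) h} ∧
      Ideal.Quotient.mk (p.map (algebraMap A (Localization.AtPrime q)))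
        (algebraMap B (Localization.AtPrime q) h) ∈
        (Localization.AtPrime q ⧸ p.map (algebraMap A (Localization.AtPrime q)))⁰ := by
  obtain ⟨hd, hp, hne⟩ := localQuot_facts J p q hJq
  haveI := hd; haveI := hp
  set O := Localization.AtPrime q
  set pO := p.map (algebraMap A O) with hpO
  let mk := Ideal.Quotient.mk pO
  haveI : IsLocalRing (O ⧸ pO) :=
    IsLocalRing.of_surjective' mk Ideal.Quotient.mk_surjective
  obtain ⟨g, ⟨h, hh, rfl⟩, hspan⟩ := exists_generator
    ((mk ∘ algebraMap B O) '' (J : Set B)) ⟨0, J.zero_mem, by simp⟩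
  have hmap : (J.map (algebraMap B O)).map mk = Ideal.span {mk (algebraMap B O h)} := by
    rw [Ideal.map_map, Ideal.map, RingHom.coe_comp, hspan]; rfl
  refine ⟨h, hh, le_antisymm ?_ ((Ideal.span_singleton_le_iff_mem _).2 (Ideal.mem_map_of_mem _ hh)), ?_⟩
  · refine Submodule.le_of_le_smul_of_le_jacobson_bot (hfg.map _) (maximalIdeal_le_jacobson _) ?_
    intro x hx
    have hmem : mk x ∈ Ideal.span {mk (algebraMap B O h)} := hmap ▸ Ideal.mem_map_of_mem mk hx
    obtain ⟨c, hc⟩ := Ideal.mem_span_singleton'.1 hmem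
    obtain ⟨c, rfl⟩ := Ideal.Quotient.mk_surjective c
    rw [← map_mul] at hc
    have he : x - c * algebraMap B O h ∈ pO := Ideal.Quotient.eq.1 hc.symm
    have heJ : x - c * algebraMap B O h ∈ J.map (algebraMap B O) :=
      sub_mem hx (Ideal.mul_mem_left _ _ (Ideal.mem_map_of_mem _ hh))
    refine Submodule.mem_sup.2 ⟨c * algebraMap B O h, Ideal.mem_span_singleton'.2 ⟨c, rfl⟩,
      x - c * algebraMap B O h, ?_, add_sub_cancel _ _⟩
    have hpO' : pO = (p.map (algebraMap A B)).map (algebraMap B O) := by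
      rw [hpO, Ideal.map_map, ← IsScalarTower.algebraMap_eq]
    have hmeet : J.map (algebraMap B O) ⊓ pO ≤
        (p.map (algebraMap A B) * J).map (algebraMap B O) := by
      rintro y ⟨hy1, hy2⟩
      rw [hpO'] at hy2
      obtain ⟨⟨⟨j, hj⟩, s⟩, e⟩ := (IsLocalization.mem_map_algebraMap_iff q.primeCompl O).1 hy1
      obtain ⟨⟨⟨j', hj'⟩, s'⟩, e'⟩ := (IsLocalization.mem_map_algebraMap_iff q.primeCompl O).1 hy2
      have : algebraMap B O (j * s') = algebraMap B O (j' * s) := by
        simp only [map_mul, ← e, ← e', Subtype.coe_mk] at *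
        ring
      obtain ⟨t, ht⟩ := (IsLocalization.eq_iff_exists q.primeCompl O).1 this
      have hz : (t : B) * (j * s') ∈ p.map (algebraMap A B) * J :=
        inf_map_le_of_flat J p ⟨Ideal.mul_mem_left _ _ (Ideal.mul_mem_right _ _ hj), by
          rw [ht]; exact Ideal.mul_mem_left _ _ (Ideal.mul_mem_right _ _ hj')⟩
      refine (IsLocalization.mem_map_algebraMap_iff q.primeCompl O).2
        ⟨(⟨_, hz⟩, t * s' * s), ?_⟩
      simp only [Submonoid.coe_mul, map_mul, ← e]
      ring
    refine Ideal.mul_mono_left ?_ (show _ ∈ pO * J.map (algebraMap B O) from ?_)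
    · exact IsLocalRing.le_maximalIdeal (fun htop => not_subsingleton (O ⧸ pO)
        (Ideal.Quotient.subsingleton_iff.2 htop))
    · rw [hpO', ← Ideal.map_mul]
      exact hmeet ⟨heJ, he⟩
  · refine mem_nonZeroDivisors_of_ne_zero fun h0 => hne ?_
    have h1 : (J.map (algebraMap B O)).map mk = ⊥ := by
      rw [hmap, Ideal.span_singleton_eq_bot]; exact h0
    exact (Ideal.map_eq_bot_iff_le_ker _).1 h1 |>.trans (Ideal.mk_ker).le

theorem finite_tensor_quot {A B : Type u} [CommRing A] [CommRing B] [Algebra A B] (k : Type u) [CommRing k] [Algebra A k]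
    (a : B) [hfin : Module.Finite k ((k ⊗[A] B) ⧸ Ideal.span {(1 : k) ⊗ₜ[A] a})] :
    Module.Finite k (k ⊗[A] (B ⧸ Ideal.span {a})) := by
  let q : B →ₐ[A] B ⧸ Ideal.span {a} := Ideal.Quotient.mkₐ A (Ideal.span {a})
  let π : k ⊗[A] B →ₐ[k] k ⊗[A] (B ⧸ Ideal.span {a}) :=
    Algebra.TensorProduct.lift (Algebra.ofId k _)
      ((Algebra.TensorProduct.includeRight).comp q) (fun x y => Commute.all _ _)
  have hker : π ((1 : k) ⊗ₜ[A] a) = 0 := by
    simp [π, q, Ideal.Quotient.eq_zero_iff_mem.2 (Ideal.mem_span_singleton_self a)]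
  let π' := Ideal.Quotient.liftₐ (Ideal.span {(1 : k) ⊗ₜ[A] a}) π fun x hx => by
      obtain ⟨c, rfl⟩ := Ideal.mem_span_singleton'.1 hx
      rw [map_mul, hker, mul_zero]
  refine Module.Finite.of_surjective π'.toLinearMap fun y => ?_
  induction y using TensorProduct.induction_on with
  | zero => exact ⟨0, map_zero _⟩
  | tmul c b =>
    obtain ⟨b, rfl⟩ := Ideal.Quotient.mk_surjective b
    refine ⟨Ideal.Quotient.mk _ (c ⊗ₜ b), ?_⟩
    show π (c ⊗ₜ b) = _
    simp [π, q]
  | add x y hx hy =>
    obtain ⟨x', rfl⟩ := hx; obtain ⟨y', rfl⟩ := hy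
    exact ⟨x' + y', map_add _ _ _⟩

theorem finite_fibre_quot {A B : Type u} [CommRing A] [CommRing B] [Algebra A B]
    [Algebra.IsStandardSmoothOfRelativeDimension 1 A B] (k : Type u) [Field k] [Algebra A k]
    {a : B} (ha : a ∈ B⁰) [Module.Flat A (B ⧸ Ideal.span {a})] :
    Module.Finite k ((k ⊗[A] B) ⧸ Ideal.span {(1 : k) ⊗ₜ[A] a}) := by
  have hg : (1 : k) ⊗ₜ[A] a ∈ (k ⊗[A] B)⁰ := by
    refine mem_nonZeroDivisors_iff_left.2 fun t ht => ?_
    let σ := Algebra.TensorProduct.comm A k B
    have := (mem_nonZeroDivisors_iff_left.1 (Div89.tmul_one_mem_nonZeroDivisors ha k)) (σ t)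
      (by rw [show a ⊗ₜ[A] (1 : k) = σ ((1 : k) ⊗ₜ[A] a) from (Algebra.TensorProduct.comm_tmul _ _ _).symm,
        ← map_mul, ht, map_zero])
    exact σ.injective (this.trans (map_zero σ).symm)
  haveI : Algebra.IsStandardSmooth k (k ⊗[A] B) :=
    Algebra.IsStandardSmoothOfRelativeDimension.isStandardSmooth 1
  haveI : Algebra.FiniteType k ((k ⊗[A] B) ⧸ Ideal.span {(1 : k) ⊗ₜ[A] a}) :=
    Algebra.FiniteType.of_surjective (Ideal.Quotient.mkₐ k _) Ideal.Quotient.mk_surjective
  haveI := Algebra.FiniteType.isNoetherianRing k ((k ⊗[A] B) ⧸ Ideal.span {(1 : k) ⊗ₜ[A] a})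
  rw [Module.finite_iff_isArtinianRing, isArtinianRing_iff_isNoetherianRing_krullDimLE_zero]
  refine ⟨inferInstance, ?_⟩
  rw [Ring.krullDimLE_iff]
  have h1 := ringKrullDim_quotient_succ_le_of_nonZeroDivisor hg
  have h2 := h1.trans (ringKrullDim_le_one k (k ⊗[A] B))
  revert h2
  generalize ringKrullDim ((k ⊗[A] B) ⧸ Ideal.span {(1 : k) ⊗ₜ[A] a}) = d
  intro h2
  cases d with
  | bot => simp
  | coe d => cases d with
    | top => exact absurd h2 (by rw [not_le]; exact WithBot.coe_lt_coe.2 (by simp))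
    | coe n =>
      norm_cast at h2 ⊢
      omega

theorem quasiFinite_quot_of_nzd {a : B} (ha : a ∈ B⁰) [Module.Flat A (B ⧸ Ideal.span {a})] :
    Algebra.QuasiFinite A (B ⧸ Ideal.span {a}) :=
  ⟨fun P _ => by
    haveI := finite_fibre_quot (A := A) (B := B) P.ResidueField ha
    exact finite_tensor_quot (A := A) (B := B) P.ResidueField a⟩

end Groth.Agent.RelCurve5
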