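import Groth.Agent.RelCurve5.SplitDiv
import Groth.Prelude.Def_W4c6dblnestedhilbptsFlags

/-!
Flags of relative divisors on a curve and their edge data.
-/

set_option autoImplicit false
set_option linter.style.haveILetI false
set_option maxHeartbeats 400000

universe u

open CategoryTheory Limits AlgebraicGeometry

namespace Groth.Agent.RelCurve5

variable {X S : Scheme.{u}} (f : X ⟶ S) [SmoothOfRelativeDimension 1 f]

theorem isEffCartier_of_div {d : ℕ} {I : X.IdealSheafData} (h : HilbD.IsDivOfDeg f d I) :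
    BlowUp.IsEffCartierIdeal I := by
  obtain ⟨⟨a1, a2, a3⟩, -⟩ := h
  haveI := a1; haveI := a2; haveI := a3
  exact isEffCartier_of_quasiFinite f I

/-- a contained divisor of the same degree is everything. -/
theorem eq_of_le_deg {d : ℕ} {I J : X.IdealSheafData} (hle : I ≤ J) (hI : HilbD.IsDivOfDeg f d I)
    (hJ : HilbD.IsDivOfDeg f d J) : I = J := by
  obtain ⟨K, hK, e⟩ := difference_divisors f hle hJ hI
  rw [Nat.sub_self] at hK
  rw [e, eq_top_of_deg_zero f K hK, ← Scheme.IdealSheafData.one_eq_top, mul_one]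

variable {μ : YoungDiagram} {n : ℕ × ℕ → ℕ}

theorem dnFlag_existsUnique_edgeData (h00 : ((0, 0) : ℕ × ℕ) ∈ μ)
    (Z : ∀ c : ℕ × ℕ, c ∈ μ → X.IdealSheafData) (hZ : HilbD.IsDnFlag f μ n Z) :
    (∃! E : HilbD.DnEdgeData μ X, E.IsOfType f n ∧ E.IsEdgesOf h00 Z) ∧
      ∀ E : HilbD.DnEdgeData μ X, E.IsOfType f n → E.IsEdgesOf h00 Z →
        ∀ (c : ℕ × ℕ) (hc : c ∈ μ) (hi : 1 ≤ c.1) (hj : 1 ≤ c.2), E.gammaOne c hc hi hj = E.gammaTwo c hc hi hj := by
  obtain ⟨hdiv, hle⟩ := hZ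
  have cancel : ∀ (c : ℕ × ℕ) (hc : c ∈ μ) (A B : X.IdealSheafData), Z c hc * A = Z c hc * B → A = B :=
    fun c hc A B h => MP99.eq_of_mul_eq_mul (isEffCartier_of_div f (hdiv c hc))
      (by rw [mul_comm A, mul_comm B, h])
  have hv : ∀ (c : ℕ × ℕ) (hc : c ∈ μ), 1 ≤ c.1 → ∃ I, HilbD.IsDivOfDeg f (n c - n (c.1 - 1, c.2)) I ∧
      Z c hc = Z (c.1 - 1, c.2) (HilbD.mem_up hc) * I := fun c hc _ =>
    difference_divisors f (hle _ c (HilbD.mem_up hc) hc ⟨Nat.sub_le _ _, le_rfl⟩) (hdiv _ _) (hdiv c hc)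
  have hh : ∀ (c : ℕ × ℕ) (hc : c ∈ μ), 1 ≤ c.2 → ∃ I, HilbD.IsDivOfDeg f (n c - n (c.1, c.2 - 1)) I ∧
      Z c hc = Z (c.1, c.2 - 1) (HilbD.mem_left hc) * I := fun c hc _ =>
    difference_divisors f (hle _ c (HilbD.mem_left hc) hc ⟨le_rfl, Nat.sub_le _ _⟩) (hdiv _ _) (hdiv c hc)
  choose V hVd hV using hv
  choose W hWd hW using hh
  refine ⟨⟨⟨Z (0, 0) h00, V, W⟩, ⟨⟨hdiv _ h00, hVd, hWd⟩, rfl, hV, hW⟩, ?_⟩, ?_⟩
  · rintro E ⟨-, e0, e1, e2⟩
    refine HilbD.DnEdgeData.ext e0.symm ?_ ?_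
    · funext c hc hi
      exact cancel _ (HilbD.mem_up hc) _ _ ((e1 c hc hi).symm.trans (hV c hc hi))
    · funext c hc hj
      exact cancel _ (HilbD.mem_left hc) _ _ ((e2 c hc hj).symm.trans (hW c hc hj))
  · rintro E - ⟨-, e1, e2⟩ c hc hi hj
    refine cancel _ (HilbD.mem_left (HilbD.mem_up hc)) _ _ ?_
    unfold HilbD.DnEdgeData.gammaOne HilbD.DnEdgeData.gammaTwo
    rw [mul_comm (E.vert c hc hi), mul_comm (E.horiz c hc hj), ← mul_assoc, ← mul_assoc,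
      ← e2 (c.1 - 1, c.2) (HilbD.mem_up hc) hj, ← e1 c hc hi]
    rw [e2 c hc hj, e1 (c.1, c.2 - 1) (HilbD.mem_left hc) hi]

/-- the flag built from edge data: down the first column, then along the row. -/
noncomputable def flagOf (E : HilbD.DnEdgeData μ X) : ℕ → ℕ → X.IdealSheafData
  | 0, 0 => E.base
  | i + 1, 0 => flagOf E i 0 * if h : (i + 1, 0) ∈ μ then E.vert (i + 1, 0) h (Nat.succ_pos i) else 1
  | i, j + 1 => flagOf E i j * if h : (i, j + 1) ∈ μ then E.horiz (i, j + 1) h (Nat.succ_pos j) else 1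

lemma flagOf_horiz (E : HilbD.DnEdgeData μ X) (i j : ℕ) (h : (i, j + 1) ∈ μ) :
    flagOf E i (j + 1) = flagOf E i j * E.horiz (i, j + 1) h (Nat.succ_pos j) := by
  cases i <;> simp [flagOf, dif_pos h]

theorem existsUnique_dnFlag_of_edgeData (h00 : ((0, 0) : ℕ × ℕ) ∈ μ)
    (hn : HilbD.IsRevPlanePartition μ n) (E : HilbD.DnEdgeData μ X) (hE : E.IsOfType f n)
    (hcomm : ∀ (c : ℕ × ℕ) (hc : c ∈ μ) (hi : 1 ≤ c.1) (hj : 1 ≤ c.2), E.gammaOne c hc hi hj ≤ E.gammaTwo c hc hi hj) :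
    ∃! Z : ∀ c : ℕ × ℕ, c ∈ μ → X.IdealSheafData, HilbD.IsDnFlag f μ n Z ∧ E.IsEdgesOf h00 Z := by
  obtain ⟨hb, hvd, hwd⟩ := hE
  have hγ : ∀ (c : ℕ × ℕ) (hc : c ∈ μ) (hi : 1 ≤ c.1) (hj : 1 ≤ c.2),
      E.gammaOne c hc hi hj = E.gammaTwo c hc hi hj := by
    intro c hc hi hj
    have m1 : n (c.1 - 1, c.2 - 1) ≤ n (c.1 - 1, c.2) :=
      hn (HilbD.mem_left (HilbD.mem_up hc)) (HilbD.mem_up hc) ⟨le_rfl, Nat.sub_le _ _⟩
    have m2 : n (c.1 - 1, c.2 - 1) ≤ n (c.1, c.2 - 1) :=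
      hn (HilbD.mem_left (HilbD.mem_up hc)) (HilbD.mem_left hc) ⟨Nat.sub_le _ _, le_rfl⟩
    have m3 : n (c.1 - 1, c.2) ≤ n c := hn (HilbD.mem_up hc) hc ⟨Nat.sub_le _ _, le_rfl⟩
    have m4 : n (c.1, c.2 - 1) ≤ n c := hn (HilbD.mem_left hc) hc ⟨le_rfl, Nat.sub_le _ _⟩
    have h1 := sum_divisors f (hvd c hc hi) (hwd (c.1 - 1, c.2) (HilbD.mem_up hc) hj)
    have h2 := sum_divisors f (hwd c hc hj) (hvd (c.1, c.2 - 1) (HilbD.mem_left hc) hi)
    simp only at h1 h2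
    refine eq_of_le_deg f (hcomm c hc hi hj) h1 ?_
    rw [show n c - n (c.1 - 1, c.2) + (n (c.1 - 1, c.2) - n (c.1 - 1, c.2 - 1)) =
      n c - n (c.1, c.2 - 1) + (n (c.1, c.2 - 1) - n (c.1 - 1, c.2 - 1)) by omega]
    exact h2
  let F : ∀ c : ℕ × ℕ, c ∈ μ → X.IdealSheafData := fun c _ => flagOf E c.1 c.2
  have hvert : ∀ (j i : ℕ) (h : (i + 1, j) ∈ μ),
      flagOf E (i + 1) j = flagOf E i j * E.vert (i + 1, j) h (Nat.succ_pos i) := by
    intro j
    induction j with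
    | zero => intro i h; cases i <;> simp [flagOf, dif_pos h]
    | succ j ih =>
      intro i h
      have hup : (i, j + 1) ∈ μ := HilbD.mem_up h
      have hleft : (i + 1, j) ∈ μ := HilbD.mem_left h
      have e := hγ (i + 1, j + 1) h (Nat.succ_pos i) (Nat.succ_pos j)
      simp only [HilbD.DnEdgeData.gammaOne, HilbD.DnEdgeData.gammaTwo, Nat.add_sub_cancel] at e
      rw [flagOf_horiz E (i + 1) j h, ih i hleft, flagOf_horiz E i j hup, mul_assoc, mul_assoc,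
        mul_comm (E.vert (i + 1, j) _ _), ← e, mul_comm (E.horiz (i, j + 1) _ _)]
  have hedge : E.IsEdgesOf h00 F := by
    refine ⟨by simp [F, flagOf], ?_, ?_⟩
    · rintro ⟨i, j⟩ hc hi
      obtain ⟨i, rfl⟩ : ∃ i', i = i' + 1 := ⟨i - 1, by simp at hi; omega⟩
      exact hvert j i hc
    · rintro ⟨i, j⟩ hc hj
      obtain ⟨j, rfl⟩ : ∃ j', j = j' + 1 := ⟨j - 1, by simp at hj; omega⟩
      exact flagOf_horiz E i j hc
  have hdeg : ∀ (k : ℕ) (c : ℕ × ℕ), c.1 + c.2 = k → ∀ hc : c ∈ μ, HilbD.IsDivOfDeg f (n c) (F c hc) := by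
    intro k
    induction k with
    | zero =>
      rintro ⟨i, j⟩ hk hc
      obtain ⟨rfl, rfl⟩ : i = 0 ∧ j = 0 := by simp at hk; omega
      show HilbD.IsDivOfDeg f _ (flagOf E 0 0)
      simpa [flagOf] using hb
    | succ k ih =>
      rintro ⟨i, j⟩ hk hc
      by_cases hj : 1 ≤ j
      · have h := sum_divisors f (ih (i, j - 1) (by simp at hk ⊢; omega) (HilbD.mem_left hc)) (hwd (i, j) hc hj)
        simp only at h
        rw [hedge.2.2 (i, j) hc hj]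
        have := hn (HilbD.mem_left hc) hc ⟨le_rfl, Nat.sub_le j 1⟩
        simp only at this
        convert h using 1
        omega
      · have hi : 1 ≤ i := by simp at hk; omega
        have h := sum_divisors f (ih (i - 1, j) (by simp at hk ⊢; omega) (HilbD.mem_up hc)) (hvd (i, j) hc hi)
        simp only at h
        rw [hedge.2.1 (i, j) hc hi]
        have := hn (HilbD.mem_up hc) hc ⟨Nat.sub_le i 1, le_rfl⟩
        simp only at this
        convert h using 1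
        omega
  have hmono : ∀ (k : ℕ) (c c' : ℕ × ℕ) (hc : c ∈ μ) (hc' : c' ∈ μ), c'.1 + c'.2 = k → c ≤ c' →
      F c' hc' ≤ F c hc := by
    intro k
    induction k with
    | zero =>
      rintro ⟨i, j⟩ ⟨i', j'⟩ hc hc' hk ⟨h1, h2⟩
      obtain ⟨rfl, rfl⟩ : i = i' ∧ j = j' := by simp at hk h1 h2; omega
      exact le_rfl
    | succ k ih =>
      rintro ⟨i, j⟩ ⟨i', j'⟩ hc hc' hk ⟨h1, h2⟩
      simp only at hk h1 h2
      by_cases hi : i < i'
      · rw [hedge.2.1 (i', j') hc' (by simp; omega)]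
        exact (mul_le_left' _ _).trans (ih (i, j) (i' - 1, j') hc (HilbD.mem_up hc')
          (by simp; omega) ⟨by simp; omega, by simpa⟩)
      · by_cases hj : j < j'
        · rw [hedge.2.2 (i', j') hc' (by simp; omega)]
          exact (mul_le_left' _ _).trans (ih (i, j) (i', j' - 1) hc (HilbD.mem_left hc')
            (by simp; omega) ⟨by simpa, by simp; omega⟩)
        · obtain ⟨rfl, rfl⟩ : i = i' ∧ j = j' := by omega
          exact le_rfl
  refine ⟨F, ⟨⟨fun c hc => hdeg _ c rfl hc, fun c c' hc hc' h => hmono _ c c' hc hc' rfl h⟩, hedge⟩, ?_⟩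
  rintro Z ⟨-, hZ⟩
  have huniq : ∀ (k : ℕ) (c : ℕ × ℕ), c.1 + c.2 = k → ∀ hc : c ∈ μ, Z c hc = F c hc := by
    intro k
    induction k with
    | zero =>
      rintro ⟨i, j⟩ hk hc
      obtain ⟨rfl, rfl⟩ : i = 0 ∧ j = 0 := by simp at hk; omega
      exact hZ.1.trans hedge.1.symm
    | succ k ih =>
      rintro ⟨i, j⟩ hk hc
      by_cases hj : 1 ≤ j
      · rw [hZ.2.2 (i, j) hc hj, hedge.2.2 (i, j) hc hj, ih (i, j - 1) (by simp at hk ⊢; omega)]
      · have hi : 1 ≤ i := by simp at hk; omega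
        rw [hZ.2.1 (i, j) hc hi, hedge.2.1 (i, j) hc hi, ih (i - 1, j) (by simp at hk ⊢; omega)]
  funext c hc
  exact huniq _ c rfl hc

end Groth.Agent.RelCurve5
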