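import Groth.Agent.FlatMor67.SmoothIsRegular
import Groth.Agent.Curves2.TameSep

/-!
Standard smooth algebras of relative dimension one: the fibre rings.
-/

set_option autoImplicit false
set_option linter.style.haveILetI false

universe u

open IsLocalRing

namespace Groth.Agent.RelCurve5

section Field

variable (k B : Type u) [Field k] [CommRing B] [Algebra k B]
  [Algebra.IsStandardSmoothOfRelativeDimension 1 k B]

include k
theorem ringKrullDim_le_one : ringKrullDim B ≤ 1 := by
  obtain ⟨g, hg⟩ := Algebra.IsStandardSmoothOfRelativeDimension.exists_etale_mvPolynomial 1 k B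
  algebraize [g.toRingHom]
  haveI : Algebra.Etale (MvPolynomial (Fin 1) k) B := hg
  haveI : Algebra.QuasiFinite (MvPolynomial (Fin 1) k) B := inferInstance
  refine le_trans (Order.krullDim_le_of_strictMono
    (PrimeSpectrum.comap (algebraMap (MvPolynomial (Fin 1) k) B)) fun P Q h => ?_) ?_
  · refine lt_of_le_of_ne (Ideal.comap_mono (show P.asIdeal ≤ Q.asIdeal from le_of_lt h)) fun e => ?_
    exact h.ne (PrimeSpectrum.ext (Algebra.QuasiFinite.eq_of_le_of_under_eq
      (R := MvPolynomial (Fin 1) k) P.asIdeal Q.asIdeal (le_of_lt h) congr($(e).asIdeal)))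
  · exact le_of_eq (by
      show ringKrullDim (MvPolynomial (Fin 1) k) = 1
      rw [MvPolynomial.ringKrullDim_of_isNoetherianRing, ringKrullDim_eq_zero_of_field]
      simp)

/-- the local rings are principal ideal domains, and not fields at maximal ideals. -/
theorem localRing_facts (Q : Ideal B) [Q.IsPrime] :
    IsDomain (Localization.AtPrime Q) ∧ IsPrincipalIdealRing (Localization.AtPrime Q) ∧
      (Q.IsMaximal → maximalIdeal (Localization.AtPrime Q) ≠ ⊥) := by
  haveI : Algebra.IsStandardSmooth k B := Algebra.IsStandardSmoothOfRelativeDimension.isStandardSmooth 1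
  haveI : IsRegularRing B := FlatMor67.isRegularRing_of_smooth k B
  haveI hreg : IsRegularLocalRing (Localization.AtPrime Q) := isRegularRing_iff.1 inferInstance _
  haveI : IsDomain (Localization.AtPrime Q) := CAlg1.isDomain_regular _
  refine ⟨inferInstance, ?_, fun hQ => ?_⟩
  · have hdim : ringKrullDim (Localization.AtPrime Q) ≤ 1 :=
      (IsLocalization.AtPrime.ringKrullDim_eq_height Q _).le.trans
        (Ideal.height_le_ringKrullDim_of_ne_top (Ideal.IsPrime.ne_top inferInstance)
          |>.trans (ringKrullDim_le_one k B))
    have hm : (maximalIdeal (Localization.AtPrime Q)).spanFinrank ≤ 1 := by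
      have := hreg.spanFinrank_maximalIdeal
      rw [← this] at hdim
      exact_mod_cast hdim
    have hp : (maximalIdeal (Localization.AtPrime Q)).IsPrincipal :=
      by
      obtain ⟨s, hs, hc⟩ : ∃ s : Finset (Localization.AtPrime Q), Ideal.span (s : Set _) = maximalIdeal (Localization.AtPrime Q) ∧ s.card ≤ 1 := by
        obtain ⟨t, ht1, ht2⟩ := Submodule.FG.exists_span_set_encard_eq_spanFinrank
          (p := maximalIdeal (Localization.AtPrime Q)) (IsNoetherian.noetherian _)
        have htf : t.Finite := Set.finite_of_encard_eq_coe ht1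
        refine ⟨htf.toFinset, by simp [ht2], ?_⟩
        have : (htf.toFinset.card : ℕ∞) = t.encard := htf.encard_eq_coe_toFinset_card.symm
        rw [ht1] at this
        exact (Nat.cast_injective this).le.trans hm
      rcases Finset.card_le_one_iff_subset_singleton.1 hc with ⟨a, ha⟩
      rcases Finset.subset_singleton_iff.1 ha with h | h
      · exact ⟨0, by rw [← hs, h]; simp⟩
      · exact ⟨a, by rw [← hs, h]; simp⟩
    haveI : Ring.KrullDimLE 1 (Localization.AtPrime Q) :=
      Ring.krullDimLE_iff.2 (by exact_mod_cast hdim)
    refine IsPrincipalIdealRing.of_prime fun P hP => ?_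
    by_cases h0 : P = ⊥
    · rw [h0]; exact bot_isPrincipal
    · haveI := hP
      haveI : P.IsMaximal := by
        exact Ideal.isMaximal_of_isPrime_of_ne_bot P h0
      rw [IsLocalRing.eq_maximalIdeal ‹P.IsMaximal›]
      exact hp
  · haveI := hQ
    exact (Curves2.smoothCurve_local
      ((RingHom.isStandardSmoothOfRelativeDimension_algebraMap 1).2
        (inferInstance : Algebra.IsStandardSmoothOfRelativeDimension 1 k B)) Q
      (Localization.AtPrime Q)).2.2.1

end Field

end Groth.Agent.RelCurve5
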