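import Groth.Agent.RelCurve5.Divisor
import Groth.Agent.Div89.RelCartier
import Groth.Agent.S1348

/-!
Relative effective Cartier divisors on smooth curves over a base.
-/

set_option autoImplicit false
set_option linter.style.haveILetI false
set_option maxHeartbeats 400000

universe u

open CategoryTheory Limits AlgebraicGeometry
open scoped nonZeroDivisors

namespace Groth.Agent.RelCurve5

open Groth.Agent.Div89

variable {X S : Scheme.{u}}

theorem exists_smooth_chart (f : X ⟶ S) [SmoothOfRelativeDimension 1 f] {x : X} {W : X.Opens}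
    (hxW : x ∈ W) : ∃ (V : S.affineOpens) (U : X.affineOpens) (e : U.1 ≤ f ⁻¹ᵁ V.1), x ∈ U.1 ∧ U.1 ≤ W ∧
      (f.appLE V.1 U.1 e).hom.IsStandardSmoothOfRelativeDimension 1 := by
  obtain ⟨V, hV, U₀, hU₀, hx, e, hf⟩ :=
    SmoothOfRelativeDimension.exists_isStandardSmoothOfRelativeDimension (n := 1) (f := f) x
  obtain ⟨r, hr, hxr⟩ := hU₀.exists_basicOpen_le (V := W) ⟨x, hxW⟩ hx
  refine ⟨⟨V, hV⟩, ⟨X.basicOpen r, hU₀.basicOpen r⟩, (X.basicOpen_le r).trans e, hxr, hr, ?_⟩
  have h : f.appLE V (X.basicOpen r) ((X.basicOpen_le r).trans e) =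
      f.appLE V U₀ e ≫ X.presheaf.map (homOfLE (X.basicOpen_le r)).op := by
    rw [Scheme.Hom.appLE_map]
  show (f.appLE V (X.basicOpen r) _).hom.IsStandardSmoothOfRelativeDimension 1
  rw [h, CommRingCat.hom_comp]
  have := hU₀.isLocalization_basicOpen r
  have h0 : (X.presheaf.map (homOfLE (X.basicOpen_le r)).op).hom.IsStandardSmoothOfRelativeDimension 0 :=
    (RingHom.isStandardSmoothOfRelativeDimension_algebraMap 0).2
      (Algebra.IsStandardSmoothOfRelativeDimension.localization_away (R := Γ(X, U₀)) r)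
  simpa using h0.comp hf

lemma quot_appLE_iff {P : ∀ {R T : Type u} [CommRing R] [CommRing T], (R →+* T) → Prop}
    (hP : RingHom.RespectsIso P) (f : X ⟶ S) (I : X.IdealSheafData) (V : S.Opens) (U : X.affineOpens)
    (e : U.1 ≤ f ⁻¹ᵁ V) (e' : I.subschemeι ⁻¹ᵁ U.1 ≤ (I.subschemeι ≫ f) ⁻¹ᵁ V) :
    P ((I.subschemeι ≫ f).appLE V (I.subschemeι ⁻¹ᵁ U.1) e').hom ↔
      P ((Ideal.Quotient.mk (I.ideal U)).comp (f.appLE V U.1 e).hom) := by
  have h : (I.subschemeι ≫ f).appLE V (I.subschemeι ⁻¹ᵁ U.1) e' =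
      (f.appLE V U.1 e ≫ CommRingCat.ofHom (Ideal.Quotient.mk (I.ideal U))) ≫ (I.subschemeObjIso U).inv := by
    rw [Category.assoc, ← I.subschemeι_app U, Scheme.Hom.app_eq_appLE, Scheme.Hom.appLE_comp_appLE]
  rw [h]
  exact hP.cancel_right_isIso _ _

/-- the relative divisor from a flat quasi-finite finitely presented subscheme. -/
theorem isEffCartier_of_quasiFinite (f : X ⟶ S) [SmoothOfRelativeDimension 1 f] (I : X.IdealSheafData)
    [LocallyQuasiFinite (I.subschemeι ≫ f)] [Flat (I.subschemeι ≫ f)]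
    [LocallyOfFinitePresentation (I.subschemeι ≫ f)] : BlowUp.IsEffCartierIdeal I := by
  haveI : Smooth f := SmoothOfRelativeDimension.smooth 1 f
  intro x
  by_cases hxI : x ∈ I.support
  swap
  · obtain ⟨U₀, hx₀⟩ := exists_affine_mem x
    obtain ⟨U, hxU, hU⟩ := exists_affine_le (U := U₀.1 ⊓ ⟨(I.support : Set X)ᶜ, I.support.isClosed.isOpen_compl⟩) (x := x) ⟨hx₀, hxI⟩
    refine ⟨U, hxU, 1, one_mem _, ?_⟩
    rw [Ideal.span_singleton_one, eq_top_iff]
    refine le_of_eq ?_
    symm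
    rw [IsAffineOpen.ideal_ext_iff U.2]
    intro y hy
    rw [← stalkIdeal_eq I U y hy, Ideal.map_top]
    exact (notMem_support_iff_stalkIdeal I y).1 (hU hy).2
  obtain ⟨V, U, e, hxU, -, hstd⟩ := exists_smooth_chart f (W := ⊤) (x := x) trivial
  algebraize [(f.appLE V.1 U.1 e).hom]
  let A := Γ(S, V.1)
  let B := Γ(X, U.1)
  let J := I.ideal U
  have e' : I.subschemeι ⁻¹ᵁ U.1 ≤ (I.subschemeι ≫ f) ⁻¹ᵁ V.1 := fun y hy => e hy
  haveI hflat : Module.Flat A (B ⧸ J) := RingHom.flat_algebraMap_iff.1 (flat_quot_of_flat f I V U e)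
  haveI hqf : Algebra.QuasiFinite A (B ⧸ J) := RingHom.quasiFinite_algebraMap.1
    ((quot_appLE_iff RingHom.QuasiFinite.respectsIso f I V.1 U e e').1
      (HasRingHomProperty.appLE (P := @LocallyQuasiFinite) _ inferInstance V ⟨_, U.2.preimage I.subschemeι⟩ e'))
  haveI hlfp : Algebra.FinitePresentation A (B ⧸ J) := RingHom.finitePresentation_algebraMap.1
    ((quot_appLE_iff RingHom.finitePresentation_respectsIso f I V.1 U e e').1
      (HasRingHomProperty.appLE (P := @LocallyOfFinitePresentation) _ inferInstance V ⟨_, U.2.preimage I.subschemeι⟩ e'))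
  haveI : Algebra.IsStandardSmooth A B := Algebra.IsStandardSmoothOfRelativeDimension.isStandardSmooth 1
  have hfg : J.FG := by
    have := Algebra.FinitePresentation.ker_fG_of_surjective (Ideal.Quotient.mkₐ A J) Ideal.Quotient.mk_surjective
    rwa [show RingHom.ker (Ideal.Quotient.mkₐ A J).toRingHom = J from Ideal.mk_ker] at this
  let q := primeAt U x hxU
  let p := primeAt V (f x) (e hxU)
  letI algO := stalkAlg U.1 x hxU
  haveI hO := isLocalization_stalk U x hxU
  letI algR := stalkAlg V.1 (f x) (e hxU)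
  haveI hR := isLocalization_stalk V (f x) (e hxU)
  have hgerm : ∀ a : A, (f.stalkMap x).hom (algebraMap A (S.presheaf.stalk (f x)) a) =
      algebraMap B (X.presheaf.stalk x) (algebraMap A B a) := fun a => by
    show (f.stalkMap x).hom ((S.presheaf.germ V.1 (f x) (e hxU)).hom a) =
      (X.presheaf.germ U.1 x hxU).hom ((f.appLE V.1 U.1 e).hom a)
    erw [Scheme.Hom.germ_stalkMap_apply]
    exact (X.presheaf.germ_res_apply (homOfLE e) x hxU (f.app V.1 a)).symm
  haveI hlie : q.LiesOver p := ⟨by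
    ext a
    show a ∈ p ↔ algebraMap A B a ∈ q
    rw [← IsLocalization.AtPrime.to_map_mem_maximal_iff (X.presheaf.stalk x) q (algebraMap A B a),
      ← hgerm, ← IsLocalization.AtPrime.to_map_mem_maximal_iff (S.presheaf.stalk (f x)) p a]
    exact (map_mem_nonunits_iff (f.stalkMap x).hom _).symm⟩
  have hJq : J ≤ q := (mem_support_iff_le I U x hxU).1 hxI
  obtain ⟨h, hhJ, hgen, hnzd⟩ := exists_local_generator J hfg p q hJq
  -- transport to the stalk
  let ε : Localization.AtPrime q ≃ₐ[B] X.presheaf.stalk x := IsLocalization.algEquiv q.primeCompl _ _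
  let h₁ : X.presheaf.stalk x := algebraMap B _ h
  have hεh : ε (algebraMap B (Localization.AtPrime q) h) = h₁ := ε.commutes h
  have hJx : stalkIdeal I x = Ideal.span {h₁} := by
    rw [stalkIdeal_eq I U x hxU]
    show J.map (algebraMap B (X.presheaf.stalk x)) = _
    have hc : (algebraMap B (X.presheaf.stalk x)) = (ε.toRingEquiv.toRingHom).comp (algebraMap B (Localization.AtPrime q)) :=
      RingHom.ext fun b => (ε.commutes b).symm
    rw [hc, ← Ideal.map_map, hgen, Ideal.map_span, Set.image_singleton]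
    exact congrArg (fun t => Ideal.span {t}) hεh
  have hh1m : h₁ ∈ IsLocalRing.maximalIdeal (X.presheaf.stalk x) :=
    (IsLocalization.AtPrime.to_map_mem_maximal_iff _ q h).2 (hJq hhJ)
  let mO := Ideal.map (f.stalkMap x).hom (IsLocalRing.maximalIdeal (S.presheaf.stalk (f x)))
  have hmO : mO = (p.map (algebraMap A (Localization.AtPrime q))).map ε.toRingEquiv.toRingHom := by
    rw [Ideal.map_map]
    show Ideal.map _ _ = _
    rw [← IsLocalization.AtPrime.map_eq_maximalIdeal p (S.presheaf.stalk (f x)), Ideal.map_map]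
    congr 1
    refine RingHom.ext fun a => ?_
    show (f.stalkMap x).hom (algebraMap A (S.presheaf.stalk (f x)) a) =
      ε (algebraMap A (Localization.AtPrime q) a)
    rw [IsScalarTower.algebraMap_apply A B (Localization.AtPrime q), ε.commutes]
    exact hgerm a
  have hreg : Ideal.Quotient.mk mO h₁ ∈ (X.presheaf.stalk x ⧸ mO)⁰ := by
    let Φ := Ideal.quotientEquiv (p.map (algebraMap A (Localization.AtPrime q))) mO ε.toRingEquiv hmO
    have : Φ (Ideal.Quotient.mk _ (algebraMap B (Localization.AtPrime q) h)) = Ideal.Quotient.mk mO h₁ := by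
      rw [Ideal.quotientEquiv_mk]; exact congrArg _ hεh
    rw [← this]
    refine mem_nonZeroDivisors_iff_right.2 fun z hz => ?_
    obtain ⟨z, rfl⟩ := Φ.surjective z
    rw [← map_mul, map_eq_zero_iff _ Φ.injective] at hz
    rw [mem_nonZeroDivisors_iff_right.1 hnzd z hz, map_zero]
  haveI : LocallyOfFinitePresentation f := inferInstance
  obtain ⟨U', hU', hx', h', hgerm', hnzd', -, -⟩ :=
    Groth.Agent.S1348.result f x (Flat.stalkMap f x) h₁ hh1m hreg
  obtain ⟨W, hxW, hW⟩ := exists_affine_le (U := U.1 ⊓ U') (x := x) ⟨hxU, hx'⟩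
  let U'a : X.affineOpens := ⟨U', hU'⟩
  have hWU : W.1 ≤ U.1 := fun y hy => (hW hy).1
  have hWU' : W.1 ≤ U'a.1 := fun y hy => (hW hy).2
  let g : Γ(X, W.1) := (X.presheaf.map (homOfLE hWU').op).hom h'
  have hgg : (X.presheaf.germ W.1 x hxW).hom g = h₁ :=
    (X.presheaf.germ_res_apply (homOfLE hWU') x hxW h').trans hgerm'
  letI algW := stalkAlg W.1 x hxW
  haveI := isLocalization_stalk W x hxW
  have hWfg : (I.ideal W).FG := by
    rw [← I.map_ideal (U := W) (V := U) hWU]; exact hfg.map _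
  have hmapW : (I.ideal W).map (algebraMap Γ(X, W.1) (X.presheaf.stalk x)) =
      (Ideal.span {g}).map (algebraMap Γ(X, W.1) (X.presheaf.stalk x)) := by
    rw [Ideal.map_span, Set.image_singleton]
    exact (stalkIdeal_eq I W x hxW).symm.trans (hJx.trans (congrArg (fun t => Ideal.span {t}) hgg.symm))
  have hex : ∀ (K L : Ideal Γ(X, W.1)), K.FG →
      K.map (algebraMap Γ(X, W.1) (X.presheaf.stalk x)) ≤ L.map (algebraMap Γ(X, W.1) (X.presheaf.stalk x)) →
      ∃ s ∉ primeAt W x hxW, ∀ k ∈ K, s * k ∈ L := by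
    intro K L hK hKL
    classical
    obtain ⟨t, rfl⟩ := hK
    have : ∀ k : t, ∃ s ∉ primeAt W x hxW, s * k.1 ∈ L := by
      intro k
      obtain ⟨⟨⟨l, hl⟩, s⟩, hs⟩ := (IsLocalization.mem_map_algebraMap_iff (primeAt W x hxW).primeCompl _).1
        (hKL (Ideal.mem_map_of_mem _ (Ideal.subset_span k.2)))
      rw [← map_mul] at hs
      obtain ⟨c, hc⟩ := (IsLocalization.eq_iff_exists (primeAt W x hxW).primeCompl _).1 hs
      refine ⟨c * s, fun hmem => ((primeAt_isPrime W x hxW).mem_or_mem hmem).elim c.2 s.2, ?_⟩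
      rw [mul_assoc, mul_comm (s : Γ(X, W.1)), hc]
      exact L.mul_mem_left _ hl
    choose s hs hsL using this
    refine ⟨∏ k, s k, ?_, fun k hk => ?_⟩
    · haveI := primeAt_isPrime W x hxW
      rw [Ideal.IsPrime.prod_mem_iff]
      rintro ⟨k, -, hk⟩
      exact hs k hk
    · suffices Ideal.span (t : Set Γ(X, W.1)) ≤ Submodule.comap (LinearMap.mulLeft Γ(X, W.1) (∏ k, s k)) L from this hk
      refine Ideal.span_le.2 fun k hk => ?_
      show (∏ i, s i) * k ∈ L
      rw [← Finset.prod_erase_mul _ _ (Finset.mem_univ (⟨k, hk⟩ : t)), mul_assoc]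
      exact L.mul_mem_left _ (hsL ⟨k, hk⟩)
  obtain ⟨s, hs, hs'⟩ := hex _ _ hWfg hmapW.le
  obtain ⟨t, ht, ht'⟩ := hex _ _ (Submodule.fg_span_singleton g) hmapW.ge
  let r := s * t
  have hxr : x ∈ X.basicOpen r := (mem_basicOpen_iff_notMem W x hxW r).2
    fun hmem => ((primeAt_isPrime W x hxW).mem_or_mem hmem).elim hs ht
  let W' : X.affineOpens := ⟨X.basicOpen r, W.2.basicOpen r⟩
  have hW' : W'.1 ≤ W.1 := X.basicOpen_le r
  refine ⟨W', hxr, _, res_mem_nonZeroDivisors hW' (res_mem_nonZeroDivisors (U := U'a) hWU' hnzd'), ?_⟩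
  let ρ := (X.presheaf.map (homOfLE hW').op).hom
  have hunit : IsUnit (ρ r) := RingedSpace.isUnit_res_basicOpen X.toLocallyRingedSpace.toRingedSpace r
  have hu : IsUnit (ρ s) ∧ IsUnit (ρ t) := isUnit_of_mul_isUnit_left (show IsUnit (ρ s * ρ t) by rw [← map_mul]; exact hunit) |> fun a =>
    ⟨a, isUnit_of_mul_isUnit_right (show IsUnit (ρ s * ρ t) by rw [← map_mul]; exact hunit)⟩
  rw [← I.map_ideal (U := W') (V := W) hW']
  refine le_antisymm (Ideal.map_le_iff_le_comap.2 fun k hk => ?_)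
    ((Ideal.span_singleton_le_iff_mem _).2 ?_)
  · show ρ k ∈ Ideal.span {ρ g}
    obtain ⟨c, hc⟩ := Ideal.mem_span_singleton'.1 (hs' k hk)
    have : ρ s * ρ k ∈ Ideal.span {ρ g} := by
      rw [← map_mul, ← hc, map_mul]
      exact Ideal.mem_span_singleton'.2 ⟨_, rfl⟩
    exact (Ideal.unit_mul_mem_iff_mem _ hu.1).1 this
  · show ρ g ∈ (I.ideal W).map ρ
    have : ρ t * ρ g ∈ (I.ideal W).map ρ := by
      rw [← map_mul]; exact Ideal.mem_map_of_mem _ (ht' g (Ideal.mem_span_singleton_self g))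
    exact (Ideal.unit_mul_mem_iff_mem _ hu.2).1 this

theorem exists_cartier_chart (f : X ⟶ S) [SmoothOfRelativeDimension 1 f] {I : X.IdealSheafData}
    (hI : BlowUp.IsEffCartierIdeal I) (x : X) :
    ∃ (V : S.affineOpens) (U : X.affineOpens) (e : U.1 ≤ f ⁻¹ᵁ V.1), x ∈ U.1 ∧
      (f.appLE V.1 U.1 e).hom.IsStandardSmoothOfRelativeDimension 1 ∧
      ∃ a ∈ Γ(X, U.1)⁰, I.ideal U = Ideal.span {a} := by
  obtain ⟨U₁, hx₁, a, ha, hIa⟩ := hI x
  obtain ⟨V, U, e, hxU, hU, hstd⟩ := exists_smooth_chart f (W := U₁.1) (x := x) hx₁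
  exact ⟨V, U, e, hxU, hstd, _, res_mem_nonZeroDivisors hU ha, ideal_res_span hU hIa⟩

theorem quasiFinite_of_effCartier (f : X ⟶ S) [SmoothOfRelativeDimension 1 f] {I : X.IdealSheafData}
    (hI : BlowUp.IsEffCartierIdeal I) [Flat (I.subschemeι ≫ f)] :
    LocallyQuasiFinite (I.subschemeι ≫ f) ∧ LocallyOfFinitePresentation (I.subschemeι ≫ f) := by
  constructor
  · rw [HasRingHomProperty.iff_exists_appLE (P := @LocallyQuasiFinite)
      (RingHom.QuasiFinite.stableUnderComposition.stableUnderCompositionWithLocalizationAway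
        RingHom.QuasiFinite.holdsForLocalizationAway).left]
    intro d
    obtain ⟨V, U, e, hx, hstd, a, ha, hIa⟩ := exists_cartier_chart f hI (I.subschemeι d)
    refine ⟨V, ⟨_, U.2.preimage I.subschemeι⟩, hx, fun _ hy => e hy,
      (quot_appLE_iff RingHom.QuasiFinite.respectsIso f I V.1 U e _).2 ?_⟩
    algebraize [(f.appLE V.1 U.1 e).hom]
    haveI h0 : Module.Flat Γ(S, V.1) (Γ(X, U.1) ⧸ I.ideal U) :=
      RingHom.flat_algebraMap_iff.1 (flat_quot_of_flat f I V U e)
    have key : ∀ J : Ideal Γ(X, U.1), J = Ideal.span {a} → Module.Flat Γ(S, V.1) (Γ(X, U.1) ⧸ J) →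
        ((Ideal.Quotient.mk J).comp (f.appLE V.1 U.1 e).hom).QuasiFinite := by
      rintro J rfl hfl
      exact RingHom.quasiFinite_algebraMap.2 (quasiFinite_quot_of_nzd ha)
    exact key _ hIa h0
  · rw [HasRingHomProperty.iff_exists_appLE (P := @LocallyOfFinitePresentation)
      (RingHom.finitePresentation_stableUnderComposition.stableUnderCompositionWithLocalizationAway
        RingHom.finitePresentation_holdsForLocalizationAway).left]
    intro d
    obtain ⟨V, U, e, hx, hstd, a, ha, hIa⟩ := exists_cartier_chart f hI (I.subschemeι d)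
    refine ⟨V, ⟨_, U.2.preimage I.subschemeι⟩, hx, fun _ hy => e hy,
      (quot_appLE_iff RingHom.finitePresentation_respectsIso f I V.1 U e _).2 ?_⟩
    algebraize [(f.appLE V.1 U.1 e).hom]
    haveI : Algebra.IsStandardSmooth Γ(S, V.1) Γ(X, U.1) :=
      Algebra.IsStandardSmoothOfRelativeDimension.isStandardSmooth 1
    refine RingHom.FinitePresentation.comp_surjective
      (RingHom.finitePresentation_algebraMap.2 inferInstance) Ideal.Quotient.mk_surjective ?_
    rw [Ideal.mk_ker, hIa]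
    exact Submodule.fg_span_singleton a

end Groth.Agent.RelCurve5
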