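import Groth.Agent.RelCurve5.AddPoint

/-!
A finite divisor on a curve becomes a sum of sections after a finite flat surjective base change.
-/

set_option autoImplicit false
set_option linter.style.haveILetI false
set_option maxHeartbeats 400000
set_option backward.isDefEq.respectTransparency false
set_option backward.isDefEq.respectTransparency.types false

universe u

open CategoryTheory Limits AlgebraicGeometry

namespace Groth.Agent.RelCurve5

open Groth.Agent.Grass5.Hilb

variable {X S : Scheme.{u}} (f : X ⟶ S) [SmoothOfRelativeDimension 1 f] [IsSeparated f]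

theorem eq_top_of_deg_zero {Y B : Scheme.{u}} (g : Y ⟶ B) (I : Y.IdealSheafData)
    (h : Mor2.IsFinLocFreeOfDeg 0 (I.subschemeι ≫ g)) : I = ⊤ := by
  obtain ⟨⟨h1, h2, h3⟩, hd⟩ := h
  haveI := h1; haveI := h2
  rw [← Scheme.IdealSheafData.support_eq_bot_iff]
  ext z
  simp only [TopologicalSpace.Closeds.coe_bot, Set.mem_empty_iff_false, iff_false]
  intro hz
  rw [← Scheme.IdealSheafData.range_subschemeι] at hz
  obtain ⟨w, -⟩ := hz
  have := Scheme.Hom.one_le_finrank_map (I.subschemeι ≫ g) w
  rw [hd] at this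
  omega

theorem exists_split (d : ℕ) : ∀ (T : Over S) (J : (PicF.XT f T).IdealSheafData),
    Mor2.IsFinLocFreeOfDeg d (J.subschemeι ≫ PicF.XTproj f T) →
    ∃ (T' : Over S) (h : T' ⟶ T), Flat h.left ∧ Surjective h.left ∧ LocallyOfFinitePresentation h.left ∧
      ∃ (xs : Fin d → (T'.left ⟶ X)) (hxs : ∀ i, xs i ≫ f = T'.hom),
        HilbD.pull f h J = ∏ i, HilbD.secGraph f T' (xs i) (hxs i) := by
  induction d with
  | zero =>
    intro T J hJ
    refine ⟨T, 𝟙 T, by rw [Over.id_left]; infer_instance, by rw [Over.id_left]; infer_instance,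
      by rw [Over.id_left]; infer_instance, fun i => i.elim0, fun i => i.elim0, ?_⟩
    rw [eq_top_of_deg_zero _ _ hJ, pull_eq_comap, Scheme.IdealSheafData.comap_top]
    simp
  | succ d ih =>
    intro T J hJ
    obtain ⟨⟨a1, a2, a3⟩, hdeg⟩ := hJ
    let p : J.subscheme ⟶ T.left := J.subschemeι ≫ PicF.XTproj f T
    haveI : IsFinite p := a1
    haveI : Flat p := a2
    haveI : LocallyOfFinitePresentation p := a3
    haveI : Surjective p := (Scheme.Hom.one_le_finrank_iff_surjective p).1 fun y => by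
      show 1 ≤ (J.subschemeι ≫ PicF.XTproj f T).finrank y
      rw [hdeg]; omega
    let U : Over S := Over.mk (p ≫ T.hom)
    let pU : U ⟶ T := Over.homMk p rfl
    let xU : U.left ⟶ X := J.subschemeι ≫ pullback.fst f T.hom
    have hxU : xU ≫ f = U.hom := by simp [xU, U, p, PicF.XTproj, pullback.condition]
    have hsecU : sec f U xU hxU ≫ PicF.XTmap f pU = J.subschemeι := by
      refine pullback.hom_ext ?_ ?_
      · simp [sec, PicF.XTmap, xU]
      · simp [sec, PicF.XTmap, pU, p, PicF.XTproj]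
        exact Category.id_comp _
    have hle : HilbD.pull f pU J ≤ HilbD.secGraph f U xU hxU := by
      rw [pull_eq_comap, secGraph_eq, ← Scheme.IdealSheafData.le_map_iff_comap_le,
        Scheme.IdealSheafData.map_ker, hsecU, Scheme.IdealSheafData.ker_subschemeι]
    obtain ⟨K, hK, hKeq⟩ := difference_divisors (PicF.XTproj f U) hle
      (finLocFree_one_secGraph f U xU hxU) (objPull pU (⟨J, ⟨a1, a2, a3⟩, hdeg⟩ : HilbD.Obj f (d + 1) T)).2
    rw [Nat.add_sub_cancel] at hK
    obtain ⟨T', h, hfl, hsurj, hfp, xs, hxs, he⟩ := ih U K hK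
    haveI := hfl; haveI := hsurj; haveI := hfp
    refine ⟨T', h ≫ pU, by rw [Over.comp_left]; exact inferInstanceAs (Flat (h.left ≫ p)),
      by rw [Over.comp_left]; exact inferInstanceAs (Surjective (h.left ≫ p)),
      by rw [Over.comp_left]; exact inferInstanceAs (LocallyOfFinitePresentation (h.left ≫ p)),
      Fin.cons (h.left ≫ xU) xs, Fin.cases (by
        rw [Fin.cons_zero, Category.assoc, hxU, Over.w h]) (fun i => by rw [Fin.cons_succ]; exact hxs i), ?_⟩
    rw [← pull_comp, hKeq, pull_eq_comap, Div89.comap_mul, ← pull_eq_comap, ← pull_eq_comap, pull_secGraph,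
      he, Fin.prod_univ_succ]
    congr 1

theorem exists_fppf_split (d : ℕ) (I : X.IdealSheafData)
    (hD : Mor2.IsFinLocFreeOfDeg d (I.subschemeι ≫ f)) :
    ∃ (S' : Scheme.{u}) (b : S' ⟶ S), Flat b ∧ Surjective b ∧ LocallyOfFinitePresentation b ∧
      ∃ σ : Fin d → (S' ⟶ pullback f b), (∀ i, σ i ≫ pullback.snd f b = 𝟙 S') ∧
        (pullback.snd I.subschemeι (pullback.fst f b)).ker = ∏ i, (σ i).ker := by
  let T : Over S := Over.mk (𝟙 S)
  obtain ⟨q, hq⟩ := exists_isPullback_comap f (𝟙 S) I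
  obtain ⟨T', h, hfl, hsurj, hfp, xs, hxs, he⟩ :=
    exists_split f d T (I.comap (pullback.fst f (𝟙 S))) (finLocFreeOfDeg_isPullback hq hD)
  have hw : h.left = T'.hom := by simpa [T] using Over.w h
  refine ⟨T'.left, T'.hom, hw ▸ hfl, hw ▸ hsurj, hw ▸ hfp, fun i => sec f T' (xs i) (hxs i),
    fun i => sec_proj f T' (xs i) (hxs i), ?_⟩
  rw [← pullbackSymmetry_hom_comp_fst, Scheme.Hom.ker_comp_of_isIso,
    Scheme.IdealSheafData.ker_fst_of_isClosedImmersion, Scheme.IdealSheafData.ker_subschemeι]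
  refine Eq.trans ?_ he
  rw [pull_eq_comap, ← Scheme.IdealSheafData.comap_comp]
  congr 1
  simp [PicF.XTmap, pullback.map, T]

end Groth.Agent.RelCurve5
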