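import Groth.Agent.RelCurve5.Scheme
import Groth.Agent.RelCurve5.Additive
import Groth.Agent.MP99.Colon
import Groth.Agent.FlatMor68.ThickeningFT

/-!
Sums and differences of finite locally free divisors on smooth curves.
-/

set_option autoImplicit false
set_option linter.style.haveILetI false
set_option maxHeartbeats 400000
set_option backward.isDefEq.respectTransparency false

universe u

open CategoryTheory Limits AlgebraicGeometry

namespace Groth.Agent.RelCurve5

variable {X S : Scheme.{u}}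

theorem mul_le_left' (I J : X.IdealSheafData) : I * J ≤ I := fun U => by
  rw [Scheme.IdealSheafData.ideal_mul, Pi.mul_apply]; exact Ideal.mul_le_left

theorem mul_le_right' (I J : X.IdealSheafData) : I * J ≤ J := fun U => by
  rw [Scheme.IdealSheafData.ideal_mul, Pi.mul_apply]; exact Ideal.mul_le_right

/-- inclusion of closed subschemes. -/
theorem exists_incl {I J : X.IdealSheafData} (h : I ≤ J) :
    ∃ a : J.subscheme ⟶ I.subscheme, IsClosedImmersion a ∧ a ≫ I.subschemeι = J.subschemeι := by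
  refine ⟨IsClosedImmersion.lift _ _ ((Scheme.IdealSheafData.ker_subschemeι _).le.trans
    (h.trans (Scheme.IdealSheafData.ker_subschemeι _).ge)), ?_, IsClosedImmersion.lift_fac _ _ _⟩
  have : IsClosedImmersion (IsClosedImmersion.lift I.subschemeι J.subschemeι
      ((Scheme.IdealSheafData.ker_subschemeι _).le.trans (h.trans (Scheme.IdealSheafData.ker_subschemeι _).ge)) ≫
      I.subschemeι) := by rw [IsClosedImmersion.lift_fac]; infer_instance
  exact IsClosedImmersion.of_comp _ I.subschemeι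

/-- the sum of two finite divisors is finite locally free. -/
theorem isFinLocFree_mul (f : X ⟶ S) [SmoothOfRelativeDimension 1 f] {I₁ I₂ : X.IdealSheafData}
    (h₁ : Mor2.IsFinLocFree (I₁.subschemeι ≫ f)) (h₂ : Mor2.IsFinLocFree (I₂.subschemeι ≫ f)) :
    BlowUp.IsEffCartierIdeal I₁ ∧ BlowUp.IsEffCartierIdeal I₂ ∧
      Mor2.IsFinLocFree ((I₁ * I₂).subschemeι ≫ f) := by
  obtain ⟨a1, a2, a3⟩ := h₁
  obtain ⟨b1, b2, b3⟩ := h₂
  haveI := a1; haveI := a2; haveI := a3; haveI := b1; haveI := b2; haveI := b3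
  have c1 := isEffCartier_of_quasiFinite f I₁
  have c2 := isEffCartier_of_quasiFinite f I₂
  haveI hfl : Flat ((I₁ * I₂).subschemeι ≫ f) := Div89.relEffCartier_mul f c1 c2
  obtain ⟨hqf, hlfp⟩ := quasiFinite_of_effCartier f (Div89.isEffCartier_mul c1 c2)
  haveI := hqf; haveI := hlfp
  refine ⟨c1, c2, ?_, hfl, hlfp⟩
  let π := (I₁ * I₂).subschemeι ≫ f
  obtain ⟨i₁, hi₁, e₁⟩ := exists_incl (mul_le_left' I₁ I₂)
  obtain ⟨i₂, hi₂, e₂⟩ := exists_incl (mul_le_right' I₁ I₂)
  haveI := hi₁; haveI := hi₂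
  let a := coprod.desc i₁ i₂
  haveI : IsFinite a := inferInstance
  have hcomp : a ≫ π = coprod.desc (I₁.subschemeι ≫ f) (I₂.subschemeι ≫ f) := by
    apply coprod.hom_ext <;> simp [a, π, reassoc_of% e₁, reassoc_of% e₂]
  haveI : IsFinite (a ≫ π) := by rw [hcomp]; infer_instance
  haveI : Surjective a := by
    refine ⟨fun z => ?_⟩
    have hz : (I₁ * I₂).subschemeι z ∈ (I₁.support : Set X) ∪ I₂.support := by
      have : (I₁ * I₂).subschemeι z ∈ ((I₁ * I₂).support : Set X) := by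
        rw [← Scheme.IdealSheafData.range_subschemeι]; exact Set.mem_range_self _
      simpa using this
    rw [← Scheme.IdealSheafData.range_subschemeι, ← Scheme.IdealSheafData.range_subschemeι] at hz
    rcases hz with ⟨w, hw⟩ | ⟨w, hw⟩
    · refine ⟨(coprod.inl : I₁.subscheme ⟶ _) w, (I₁ * I₂).subschemeι.injective ?_⟩
      rw [← hw, ← Scheme.Hom.comp_apply, ← Scheme.Hom.comp_apply]
      simp [a, e₁]
    · refine ⟨(coprod.inr : I₂.subscheme ⟶ _) w, (I₁ * I₂).subschemeι.injective ?_⟩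
      rw [← hw, ← Scheme.Hom.comp_apply, ← Scheme.Hom.comp_apply]
      simp [a, e₂]
  haveI : IsSeparated π := FlatMor68.ThickeningFT.isSeparated_of_comp_surjective a π
  haveI : UniversallyClosed π := UniversallyClosed.of_comp_surjective a π
  haveI : IsProper π := {}
  exact IsFinite.of_isProper_of_locallyQuasiFinite (f := π)

/-- the base change of a closed subscheme. -/
theorem exists_isPullback_comap (f : X ⟶ S) {S' : Scheme.{u}} (g : S' ⟶ S) (I : X.IdealSheafData) :
    ∃ q : (I.comap (pullback.fst f g)).subscheme ⟶ I.subscheme,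
      IsPullback q ((I.comap (pullback.fst f g)).subschemeι ≫ pullback.snd f g) (I.subschemeι ≫ f) g := by
  refine ⟨(I.comapIso (pullback.fst f g)).hom ≫ pullback.snd _ _, ?_⟩
  have h1 : IsPullback ((I.comapIso (pullback.fst f g)).hom ≫ pullback.snd _ _)
      (I.comap (pullback.fst f g)).subschemeι I.subschemeι (pullback.fst f g) :=
    (IsPullback.of_hasPullback (pullback.fst f g) I.subschemeι).flip.of_iso
      (I.comapIso (pullback.fst f g)).symm (Iso.refl _) (Iso.refl _) (Iso.refl _)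
      (by simp [-Scheme.IdealSheafData.comapIso_hom_snd, -Scheme.IdealSheafData.comapIso_hom_snd_assoc])
      (by simp) (by simp) (by simp)
  exact h1.paste_vert (IsPullback.of_hasPullback f g)

theorem finrank_mul (f : X ⟶ S) [SmoothOfRelativeDimension 1 f] {I₁ I₂ : X.IdealSheafData}
    (h₁ : Mor2.IsFinLocFree (I₁.subschemeι ≫ f)) (h₂ : Mor2.IsFinLocFree (I₂.subschemeι ≫ f)) (y : S) :
    ((I₁ * I₂).subschemeι ≫ f).finrank y =
      (I₁.subschemeι ≫ f).finrank y + (I₂.subschemeι ≫ f).finrank y := by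
  obtain ⟨c1, c2, d1, d2, d3⟩ := isFinLocFree_mul f h₁ h₂
  obtain ⟨a1, a2, a3⟩ := h₁
  obtain ⟨b1, b2, b3⟩ := h₂
  haveI := a1; haveI := a2; haveI := b1; haveI := b2; haveI := d1; haveI := d2
  let g := S.fromSpecResidueField y
  let fst := pullback.fst f g
  obtain ⟨q₁, hq₁⟩ := exists_isPullback_comap f g I₁
  obtain ⟨q₂, hq₂⟩ := exists_isPullback_comap f g I₂
  obtain ⟨q, hq⟩ := exists_isPullback_comap f g (I₁ * I₂)
  let y' : Spec (S.residueField y) := IsLocalRing.closedPoint (S.residueField y)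
  have hy : g y' = y := S.fromSpecResidueField_apply y _
  rw [← hy, ← Scheme.Hom.finrank_of_isPullback _ _ _ _ hq, ← Scheme.Hom.finrank_of_isPullback _ _ _ _ hq₁,
    ← Scheme.Hom.finrank_of_isPullback _ _ _ _ hq₂]
  haveI : IsFinite ((I₁.comap fst).subschemeι ≫ pullback.snd f g) :=
    MorphismProperty.of_isPullback hq₁ a1
  haveI : IsFinite ((I₂.comap fst).subschemeι ≫ pullback.snd f g) :=
    MorphismProperty.of_isPullback hq₂ b1
  haveI : Flat ((I₁.comap fst).subschemeι ≫ pullback.snd f g) := MorphismProperty.of_isPullback hq₁ a2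
  haveI : Flat ((I₂.comap fst).subschemeι ≫ pullback.snd f g) := MorphismProperty.of_isPullback hq₂ b2
  have e : (I₁ * I₂).comap fst = I₁.comap fst * I₂.comap fst := Div89.comap_mul _ _ _
  haveI : IsFinite ((I₁.comap fst * I₂.comap fst).subschemeι ≫ pullback.snd f g) :=
    e ▸ MorphismProperty.of_isPullback hq d1
  haveI : Flat ((I₁.comap fst * I₂.comap fst).subschemeι ≫ pullback.snd f g) :=
    e ▸ MorphismProperty.of_isPullback hq d2
  rw [show ((I₁ * I₂).comap (pullback.fst f g)) = I₁.comap fst * I₂.comap fst from e]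
  exact finrank_mul_field (pullback.snd f g) (Div89.isEffCartier_comap_pullback f c1 g)
    (Div89.isEffCartier_comap_pullback f c2 g) y'

theorem sum_divisors (f : X ⟶ S) [SmoothOfRelativeDimension 1 f] {I₁ I₂ : X.IdealSheafData} {d₁ d₂ : ℕ}
    (h₁ : Mor2.IsFinLocFreeOfDeg d₁ (I₁.subschemeι ≫ f)) (h₂ : Mor2.IsFinLocFreeOfDeg d₂ (I₂.subschemeι ≫ f)) :
    Mor2.IsFinLocFreeOfDeg (d₁ + d₂) ((I₁ * I₂).subschemeι ≫ f) :=
  ⟨(isFinLocFree_mul f h₁.1 h₂.1).2.2, fun y => by rw [finrank_mul f h₁.1 h₂.1, h₁.2, h₂.2]⟩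

theorem difference_divisors (f : X ⟶ S) [SmoothOfRelativeDimension 1 f] {I₁ I₂ : X.IdealSheafData}
    (hle : I₂ ≤ I₁) {d₁ d₂ : ℕ} (h₁ : Mor2.IsFinLocFreeOfDeg d₁ (I₁.subschemeι ≫ f))
    (h₂ : Mor2.IsFinLocFreeOfDeg d₂ (I₂.subschemeι ≫ f)) :
    ∃ I : X.IdealSheafData, Mor2.IsFinLocFreeOfDeg (d₂ - d₁) (I.subschemeι ≫ f) ∧ I₂ = I₁ * I := by
  obtain ⟨⟨a1, a2, a3⟩, ha⟩ := h₁
  obtain ⟨⟨b1, b2, b3⟩, hb⟩ := h₂
  haveI := a1; haveI := a2; haveI := a3; haveI := b1; haveI := b2; haveI := b3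
  have c1 := isEffCartier_of_quasiFinite f I₁
  have c2 := isEffCartier_of_quasiFinite f I₂
  obtain ⟨K, cK, hK⟩ := MP99.exists_cofactor c2 c1 hle
  have hK' : I₂ = I₁ * K := by rw [hK, mul_comm]
  haveI : Flat ((I₁ * K).subschemeι ≫ f) := hK' ▸ b2
  haveI hfl : Flat (K.subschemeι ≫ f) := Div89.relEffCartier_difference f c1 cK
  obtain ⟨-, hlfp⟩ := quasiFinite_of_effCartier f cK
  haveI : IsFinite (K.subschemeι ≫ f) := by
    obtain ⟨i, hi, ei⟩ := exists_incl (mul_le_right' I₁ K)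
    haveI := hi
    haveI : IsFinite ((I₁ * K).subschemeι ≫ f) := hK' ▸ b1
    rw [← ei, Category.assoc]; infer_instance
  have hKlf : Mor2.IsFinLocFree (K.subschemeι ≫ f) := ⟨inferInstance, hfl, hlfp⟩
  refine ⟨K, ⟨hKlf, fun y => ?_⟩, hK'⟩
  have h := finrank_mul f ⟨a1, a2, a3⟩ hKlf y
  rw [show ((I₁ * K).subschemeι ≫ f).finrank y = d₂ by rw [← hK']; exact hb y, ha] at h
  omega

end Groth.Agent.RelCurve5
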